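import Groth.Agent.RelRegLib.Gen
import Groth.Agent.TransLib.SyntMor
import Groth.Agent.TransLib.SyntPoint
import Groth.Agent.CIRingLib.Mor
import Groth.Prelude.Def_Mor2
import Mathlib

/-!
# Syntomic schemes inside smooth ones are regularly immersed, over any base
-/

set_option autoImplicit false
set_option linter.style.haveILetI false

universe u

open KoszDetLib KRLib RingTheory.Sequence IsLocalRing TensorProduct CategoryTheory AlgebraicGeometry

namespace RelRegLib

theorem exists_regular_away_of_syntomic {A B C : Type u} [CommRing A] [CommRing B] [CommRing C] [Algebra A B]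
    [Algebra A C] [Algebra.Smooth A B] (σ : B →ₐ[A] C) (hσ : Function.Surjective σ) (h : Synt.IsSyntomic A C)
    (Q : Ideal B) [Q.IsPrime] (hQ : RingHom.ker σ.toRingHom ≤ Q) :
    ∃ g : B, g ∉ Q ∧ ∃ l : List (Localization.Away g), IsRegular (Localization.Away g) l ∧
      (RingHom.ker σ.toRingHom).map (algebraMap B (Localization.Away g)) = Ideal.ofList l := by
  let I : Ideal B := RingHom.ker σ.toRingHom
  let C' := B ⧸ I
  have h' : Synt.IsSyntomic A C' :=
    TransLib.isSyntomic_congr (Ideal.quotientKerAlgEquivOfSurjective hσ).symm h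
  haveI := h'.2.1
  haveI : Module.Flat A C' := h'.1
  have hI : I.FG := by
    haveI := h.2.1
    exact Algebra.FinitePresentation.ker_fG_of_surjective σ hσ
  haveI hqp : (Q.map (Ideal.Quotient.mk I)).IsPrime :=
    Ideal.map_isPrime_of_surjective Ideal.Quotient.mk_surjective (by rwa [Ideal.mk_ker])
  let q : Ideal C' := Q.map (Ideal.Quotient.mk I)
  have hq : q.comap (Ideal.Quotient.mk I) = Q := by
    rw [Ideal.comap_map_of_surjective _ Ideal.Quotient.mk_surjective, ← RingHom.ker_eq_comap_bot, Ideal.mk_ker,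
      sup_eq_left.2 hQ]
  let p := Q.comap (algebraMap A B)
  let Q₀ := PrimeSpectrum.preimageHomeomorphFiber A B ⟨p, inferInstance⟩ ⟨⟨Q, inferInstance⟩, rfl⟩
  let QF : Ideal (p.Fiber B) := Q₀.asIdeal
  haveI : QF.IsPrime := Q₀.isPrime
  have hQF : QF.comap (Algebra.TensorProduct.includeRight : B →ₐ[A] p.Fiber B).toRingHom = Q := by
    have e := (PrimeSpectrum.preimageHomeomorphFiber A B ⟨p, inferInstance⟩).symm_apply_apply ⟨⟨Q, inferInstance⟩, rfl⟩
    exact congrArg (fun z => (Subtype.val z).asIdeal) e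
  let φ : p.Fiber B →ₐ[p.ResidueField] p.Fiber C' := Algebra.TensorProduct.map (AlgHom.id _ _) (Ideal.Quotient.mkₐ A I)
  have hφ : Function.Surjective φ :=
    LinearMap.lTensor_surjective p.ResidueField (g := (Ideal.Quotient.mkₐ A I).toLinearMap) Ideal.Quotient.mk_surjective
  have hkφ : RingHom.ker φ.toRingHom = I.map (Algebra.TensorProduct.includeRight : B →ₐ[A] p.Fiber B).toRingHom := by
    have h1 := Algebra.TensorProduct.lTensor_ker (A := p.ResidueField) (Ideal.Quotient.mkₐ A I) Ideal.Quotient.mk_surjective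
    rw [show RingHom.ker (Ideal.Quotient.mkₐ A I) = I from Ideal.mk_ker] at h1
    exact h1
  have hkle : RingHom.ker φ.toRingHom ≤ QF := hkφ ▸ Ideal.map_le_iff_le_comap.2 (hQ.trans hQF.ge)
  haveI : (QF.map φ.toRingHom).IsPrime := Ideal.map_isPrime_of_surjective hφ hkle
  have hQ' : (QF.map φ.toRingHom).comap φ.toRingHom = QF := by
    rw [Ideal.comap_map_of_surjective φ.toRingHom hφ, ← RingHom.ker_eq_comap_bot, sup_eq_left.2 hkle]
  obtain ⟨π, hπ, hπker, -⟩ := TransLib.exists_localPresentation φ hφ (QF.map φ.toRingHom) QF hQ'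
  haveI := isRegularLocalRing_fib Q QF
  haveI : Algebra.EssFiniteType p.ResidueField (Localization.AtPrime QF) :=
    Algebra.EssFiniteType.comp p.ResidueField (p.Fiber B) _
  obtain ⟨_, hloc⟩ := h'.2.2 ⟨p, inferInstance⟩
  obtain ⟨γ, hγ, hCI⟩ := hloc ⟨QF.map φ.toRingHom, inferInstance⟩
  haveI : Algebra.FiniteType (p.Fiber C') (Localization.Away γ) :=
    IsLocalization.finiteType_of_monoid_fg (Submonoid.powers γ) _
  haveI : Algebra.FiniteType p.ResidueField (Localization.Away γ) :=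
    Algebra.FiniteType.trans (inferInstance : Algebra.FiniteType p.ResidueField (p.Fiber C')) ‹_›
  obtain ⟨rs, hrs, hrsI⟩ := (TransLib.isCIOver_iff π hπ).1
    (TransLib.isCIOver_atPrime_of_away _ γ hγ (TransLib.isLCIOver_of_isGlobalCI hCI))
  refine exists_regular_away Q QF hQF I hI q hq ?_ ⟨rs, hrs, ?_⟩
  · exact Module.Flat.trans A C' (Localization.AtPrime q)
  · rw [hrsI, hπker, hkφ, Ideal.map_map]

theorem isRegularClosedImmersion_of_syntomic {X Y S : Scheme.{u}} (p : X ⟶ S) [Smooth p] (i : Y ⟶ X)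
    [IsClosedImmersion i] (h : Synt.IsSyntomicMor (i ≫ p)) : Mor2.IsRegularClosedImmersion i := by
  refine ⟨inferInstance, fun y => ?_⟩
  obtain ⟨V, hV, hyV, -⟩ := exists_isAffineOpen_mem_and_subset (x := p (i y)) (U := ⊤) trivial
  obtain ⟨W, hW, hyW, hWV⟩ := exists_isAffineOpen_mem_and_subset (x := i y) (U := p ⁻¹ᵁ V) hyV
  have hWY : IsAffineOpen (i ⁻¹ᵁ W) := hW.preimage i
  have e : i ⁻¹ᵁ W ≤ (i ≫ p) ⁻¹ᵁ V := (i.preimage_mono hWV).trans_eq (Scheme.Hom.comp_preimage i p V).symm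
  have hl := HasRingHomProperty.appLE (P := TransLib.SyntMor) (i ≫ p) ((TransLib.isSyntomicMor_iff _).1 h)
    ⟨V, hV⟩ ⟨i ⁻¹ᵁ W, hWY⟩ e
  rw [← Scheme.Hom.appLE_comp_appLE i p V W (i ⁻¹ᵁ W) hWV le_rfl, CommRingCat.hom_comp] at hl
  letI := (p.appLE V W hWV).hom.toAlgebra
  haveI : Algebra.Smooth Γ(S, V) Γ(X, W) := HasRingHomProperty.appLE (P := @Smooth) p inferInstance ⟨V, hV⟩ ⟨W, hW⟩ hWV
  letI := ((i.appLE W (i ⁻¹ᵁ W) le_rfl).hom.comp (p.appLE V W hWV).hom).toAlgebra
  let σ : Γ(X, W) →ₐ[Γ(S, V)] Γ(Y, i ⁻¹ᵁ W) :=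
    { (i.appLE W (i ⁻¹ᵁ W) le_rfl).hom with commutes' := fun _ => rfl }
  have hσ : Function.Surjective σ := by
    show Function.Surjective (i.appLE W (i ⁻¹ᵁ W) le_rfl).hom
    rw [← Scheme.Hom.app_eq_appLE]
    exact i.app_surjective W hW
  have hker : i.ker.ideal ⟨W, hW⟩ = RingHom.ker σ.toRingHom := by
    rw [Scheme.Hom.ker_apply, Scheme.Hom.app_eq_appLE]
  have key : ∀ a, a ∉ (hW.primeIdealOf ⟨i y, hyW⟩).asIdeal → i y ∈ X.basicOpen a := fun a ha => by
    have e := hW.fromSpec_primeIdealOf ⟨i y, hyW⟩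
    change hW.fromSpec _ = i y at e
    rw [← e, ← Scheme.Hom.mem_preimage, hW.fromSpec_preimage_basicOpen]
    exact (PrimeSpectrum.mem_basicOpen _ _).2 ha
  have hQ : RingHom.ker σ.toRingHom ≤ (hW.primeIdealOf ⟨i y, hyW⟩).asIdeal := by
    intro a ha
    rw [← hker] at ha
    by_contra hna
    have hmem : i y ∈ X.basicOpen a := key a hna
    have h0 : (i.app W).hom a = 0 := by
      rw [Scheme.Hom.ker_apply] at ha
      exact ha
    have h1 : y ∈ i ⁻¹ᵁ X.basicOpen a := hmem
    rw [Scheme.preimage_basicOpen, h0, Scheme.basicOpen_zero] at h1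
    exact h1
  obtain ⟨g, hg, l, hl', hspan⟩ := exists_regular_away_of_syntomic σ hσ hl _ hQ
  haveI := hW.isLocalization_basicOpen g
  let ε : Localization.Away g ≃ₐ[Γ(X, W)] Γ(X, X.basicOpen g) := IsLocalization.algEquiv (Submonoid.powers g) _ _
  refine ⟨X.basicOpen g, hW.basicOpen g, ?_, l.map ε.toRingEquiv, TransLib.isRegular_of_ringEquiv ε.toRingEquiv hl', ?_⟩
  · exact key g hg
  · have hb := i.ker.map_ideal_basicOpen ⟨W, hW⟩ g
    rw [← hker] at hspan
    refine hb.symm.trans ?_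
    have e1 : (X.presheaf.map (homOfLE (X.basicOpen_le g)).op).hom =
        ε.toRingEquiv.toRingHom.comp (algebraMap Γ(X, W) (Localization.Away g)) :=
      RingHom.ext fun a => (ε.commutes a).symm
    rw [e1, ← Ideal.map_map, hspan, Ideal.map_ofList]
    rfl

end RelRegLib
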