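import Groth.Agent.RelRegLib.GenRegular
import Groth.Agent.CIRingLib.Open
import Groth.Agent.KoszAtLib.PrecompMor
import Groth.Agent.RelRegLib.Scheme
import Mathlib

/-!
# Regular immersions at points with regular ambient fibre
-/

set_option autoImplicit false
set_option linter.style.haveILetI false

noncomputable section

universe u

open CategoryTheory CategoryTheory.Limits AlgebraicGeometry IsLocalRing TensorProduct RingTheory.Sequence

namespace RelRegLib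

theorem exists_fib_point {X S : Scheme.{u}} (g : X ⟶ S) {V : S.Opens} (hV : IsAffineOpen V) {U : X.Opens}
    (hU : IsAffineOpen U) (e : U ≤ g ⁻¹ᵁ V) (x : X) (hx : x ∈ U) :
    letI := (g.appLE V U e).hom.toAlgebra
    ∀ (r : Ideal Γ(X, U)) [r.IsPrime] (_ : r = (hU.primeIdealOf ⟨x, hx⟩).asIdeal) (p : Ideal Γ(S, V)) [p.IsPrime]
      (_ : p = r.comap (algebraMap Γ(S, V) Γ(X, U))) (QF : Ideal (p.Fiber Γ(X, U))) [QF.IsPrime]
      (_ : QF.comap (Algebra.TensorProduct.includeRight : Γ(X, U) →ₐ[Γ(S, V)] p.Fiber Γ(X, U)).toRingHom = r),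
      Nonempty (Localization.AtPrime QF ≃+*
        (X.presheaf.stalk x ⧸ (maximalIdeal (S.presheaf.stalk (g x))).map (g.stalkMap x).hom)) := by
  intro r _ hr p _ hp Q _ hQ
  subst hr
  letI := (g.appLE V U e).hom.toAlgebra
  let q := (hU.primeIdealOf ⟨x, hx⟩).asIdeal
  have hxV : g x ∈ V := e hx
  letI : Algebra Γ(X, U) (X.presheaf.stalk x) := TopCat.Presheaf.algebra_section_stalk X.presheaf ⟨x, hx⟩
  haveI := hU.isLocalization_stalk ⟨x, hx⟩
  letI : Algebra Γ(S, V) (S.presheaf.stalk (g x)) := TopCat.Presheaf.algebra_section_stalk S.presheaf ⟨g x, hxV⟩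
  haveI := hV.isLocalization_stalk ⟨g x, hxV⟩
  let ε := IsLocalization.algEquiv q.primeCompl (Localization.AtPrime q) (X.presheaf.stalk x)
  have hcomm : ∀ a, (g.stalkMap x).hom (algebraMap Γ(S, V) (S.presheaf.stalk (g x)) a) =
      algebraMap Γ(X, U) (X.presheaf.stalk x) (algebraMap Γ(S, V) Γ(X, U) a) := fun a =>
    (Scheme.Hom.germ_stalkMap_apply g V x hxV a).trans
      (TopCat.Presheaf.germ_res_apply X.presheaf (homOfLE e) x hx _).symm
  have hp' : p = (hV.primeIdealOf ⟨g x, hxV⟩).asIdeal := by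
    rw [hp]
    refine Ideal.ext fun a => ?_
    rw [Ideal.mem_comap, ← IsLocalization.AtPrime.to_map_mem_maximal_iff (X.presheaf.stalk x) q,
      ← IsLocalization.AtPrime.to_map_mem_maximal_iff (S.presheaf.stalk (g x)) (hV.primeIdealOf ⟨g x, hxV⟩).asIdeal,
      ← hcomm]
    exact ⟨fun ha => by
      by_contra hna
      exact (mem_maximalIdeal _).1 ha ((IsLocalRing.notMem_maximalIdeal.1 hna).map (g.stalkMap x).hom),
      fun ha => map_nonunit (g.stalkMap x).hom _ ha⟩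
  have hmap : (p.map (algebraMap Γ(S, V) (Localization.AtPrime q))).map ε.toRingEquiv.toRingHom =
      (maximalIdeal (S.presheaf.stalk (g x))).map (g.stalkMap x).hom := by
    rw [← IsLocalization.AtPrime.map_eq_maximalIdeal (hV.primeIdealOf ⟨g x, hxV⟩).asIdeal (S.presheaf.stalk (g x)),
      Ideal.map_map, Ideal.map_map, hp']
    congr 1
    refine RingHom.ext fun a => ?_
    show ε (algebraMap Γ(S, V) (Localization.AtPrime q) a) = _
    rw [IsScalarTower.algebraMap_apply Γ(S, V) Γ(X, U) (Localization.AtPrime q), ε.commutes]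
    exact (hcomm a).symm
  have key : ∀ (r : Ideal Γ(X, U)) [r.IsPrime], r = q →
      Nonempty ((Localization.AtPrime r ⧸ (p.map (algebraMap Γ(S, V) Γ(X, U))).map (algebraMap Γ(X, U) (Localization.AtPrime r))) ≃+*
        (X.presheaf.stalk x ⧸ (maximalIdeal (S.presheaf.stalk (g x))).map (g.stalkMap x).hom)) := by
    intro r _ hr
    subst hr
    refine ⟨Ideal.quotientEquiv _ _ ε.toRingEquiv ?_⟩
    rw [← hmap]
    congr 1
    rw [Ideal.map_map]
    congr 1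
  obtain ⟨e'⟩ := key _ hQ
  exact ⟨(Ideal.Fiber.algEquivAux₂ p Q).toRingEquiv.trans e'⟩

theorem regularImmersion_of_RCI {Z X : Scheme.{u}} (i : Z ⟶ X) (h : Mor2.IsRegularClosedImmersion i) :
    RegImm.IsRegularImmersion .regular i := by
  obtain ⟨hc, h⟩ := h
  haveI := hc
  refine ⟨inferInstance, fun z => ?_⟩
  obtain ⟨U, hU, hz, rs, hrs, he⟩ := h z
  refine ⟨⟨U, hU⟩, hz, MorphismProperty.of_isPullback (isPullback_morphismRestrict i U).flip hc, rs, hrs, ?_⟩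
  rw [Scheme.Hom.ker_apply] at he
  exact he

theorem ciFib_of_opens {X S : Scheme.{u}} (h : X ⟶ S) [LocallyOfFiniteType h] (W : X.Opens) (x : X) (hx : x ∈ W)
    (hW : CIRingLib.CIFib ((W.ι ≫ h).stalkMap ⟨x, hx⟩).hom) : CIRingLib.CIFib (h.stalkMap x).hom := by
  obtain ⟨hl, hc⟩ := hW
  have hcomp : ((W.ι ≫ h).stalkMap ⟨x, hx⟩).hom = (W.ι.stalkMap ⟨x, hx⟩).hom.comp (h.stalkMap x).hom :=
    congrArg CommRingCat.Hom.hom (Scheme.Hom.stalkMap_comp W.ι h ⟨x, hx⟩)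
  let ε := (asIso (W.ι.stalkMap ⟨x, hx⟩)).commRingCatIsoToRingEquiv
  haveI : IsLocallyNoetherian (h.fiber (h x)) := by
    haveI := UOpenLib.lft_fiberToSpec h (h x)
    exact LocallyOfFiniteType.isLocallyNoetherian (h.fiberToSpecResidueField (h x))
  haveI : IsNoetherianRing (X.presheaf.stalk x ⧸ (maximalIdeal (S.presheaf.stalk (h x))).map (h.stalkMap x).hom) :=
    GorLib.isNoetherianRing_fibre h x
  let e' : (X.presheaf.stalk x ⧸ (maximalIdeal (S.presheaf.stalk (h x))).map (h.stalkMap x).hom) ≃+*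
      (W.toScheme.presheaf.stalk ⟨x, hx⟩ ⧸ (maximalIdeal (S.presheaf.stalk (h x))).map ((W.ι ≫ h).stalkMap ⟨x, hx⟩).hom) :=
    Ideal.quotientEquiv _ _ ε (by
      rw [hcomp]
      exact (Ideal.map_map _ _).symm)
  haveI : IsLocalRing (W.toScheme.presheaf.stalk ⟨x, hx⟩ ⧸
      (maximalIdeal (S.presheaf.stalk (h x))).map ((W.ι ≫ h).stalkMap ⟨x, hx⟩).hom) := hl
  haveI := e'.symm.isLocalRing
  exact ⟨‹_›, (CIRingLib.isCompleteIntersection_congr_iff e').2 hc⟩

theorem ciFib_of_regular_immersion {X Y S : Scheme.{u}} (g : X ⟶ S) [Flat g] [LocallyOfFinitePresentation g]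
    (f : Y ⟶ X) [IsClosedImmersion f] [Flat (f ≫ g)] [LocallyOfFinitePresentation (f ≫ g)] (y : Y)
    (hg : CIRingLib.CIFib (g.stalkMap (f y)).hom)
    (hR : ∃ V : X.Opens, f y ∈ V ∧ Mor2.IsRegularClosedImmersion (f ∣_ V)) :
    CIRingLib.CIFib ((f ≫ g).stalkMap y).hom := by
  obtain ⟨V, hyV, hRV⟩ := hR
  obtain ⟨⟨U, hU⟩, ⟨T, hT⟩, e, hyU, hs⟩ := CIRingLib.isSyntomicAt_of_ciFib g (f y) hg
  have h1 : Synt.IsSyntomicMor (U.ι ≫ g) := fun z =>
    ⟨⟨U.ι ⁻¹ᵁ U, by rw [Scheme.Opens.ι_preimage_self]; haveI : IsAffine _ := hU; exact isAffineOpen_top _⟩, ⟨T, hT⟩,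
      by rw [Scheme.Hom.comp_preimage]; exact U.ι.preimage_mono e, z.2, by
        show TransLib.SyntHom ((U.ι ≫ g).appLE T (U.ι ⁻¹ᵁ U) _).hom
        rw [← Scheme.Hom.appLE_comp_appLE U.ι g T U (U.ι ⁻¹ᵁ U) e le_rfl, CommRingCat.hom_comp]
        haveI : IsIso (U.ι.appLE U (U.ι ⁻¹ᵁ U) le_rfl) := by
          rw [← Scheme.Hom.app_eq_appLE]
          refine U.ι.isIso_app U ?_
          rw [Scheme.Opens.opensRange_ι]
        exact TransLib.syntHom_isLocal.respectsIso.1 _ (asIso (U.ι.appLE U (U.ι ⁻¹ᵁ U) le_rfl)).commRingCatIsoToRingEquiv hs⟩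
  have hl : KoszAtLib.LCIMor (U.ι ≫ g) :=
    ((KoszAtLib.syntMor_iff _).1 ((TransLib.isSyntomicMor_iff _).1 h1)).2
  let W := V ⊓ U
  have hW : Mor2.IsRegularClosedImmersion (f ∣_ W) := by
    refine isRegularClosedImmersion_baseChange (i := f ∣_ V) (g := X.homOfLE (inf_le_left : W ≤ V))
      (g' := Y.homOfLE (f.preimage_mono (inf_le_left : W ≤ V))) ?_ hRV
    exact IsPullback.of_right (by
      rw [Scheme.homOfLE_ι, Scheme.homOfLE_ι]
      exact (isPullback_morphismRestrict f W).flip) (by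
        rw [← cancel_mono V.ι, Category.assoc, Category.assoc, morphismRestrict_ι, Scheme.homOfLE_ι,
          morphismRestrict_ι, Scheme.homOfLE_ι_assoc])
      (isPullback_morphismRestrict f V).flip
  have hl2 : KoszAtLib.LCIMor (W.ι ≫ g) := by
    rw [← X.homOfLE_ι (inf_le_right : W ≤ U), Category.assoc]
    exact IsZariskiLocalAtSource.comp hl _
  have hlW : KoszAtLib.LCIMor ((f ∣_ W) ≫ W.ι ≫ g) :=
    MorphismProperty.comp_mem KoszAtLib.LCIMor _ _
      (KoszAtLib.lciMor_of_regularImmersion _ (KoszAtLib.koszul_of_regular _ (regularImmersion_of_RCI _ hW))) hl2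
  have hS : Synt.IsSyntomicMor ((f ⁻¹ᵁ W).ι ≫ f ≫ g) := by
    rw [← morphismRestrict_ι_assoc]
    refine (KoszAtLib.isSyntomicMor_iff_flat_lciMor _).2 ⟨?_, hlW⟩
    rw [morphismRestrict_ι_assoc]
    infer_instance
  exact ciFib_of_opens (f ≫ g) (f ⁻¹ᵁ W) y ⟨hyV, hyU⟩
    (((CIRingLib.isCIMorphism_iff _).1 ((CIRingLib.isSyntomicMor_iff_isCIMorphism _).1 hS)).2.2 _)

theorem regular_immersion_of_ciFib {X Y S : Scheme.{u}} (g : X ⟶ S) [Flat g] [LocallyOfFinitePresentation g]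
    (f : Y ⟶ X) [IsClosedImmersion f] [Flat (f ≫ g)] [LocallyOfFinitePresentation (f ≫ g)] (y : Y)
    [IsLocalRing (X.presheaf.stalk (f y) ⧸ (maximalIdeal (S.presheaf.stalk (g (f y)))).map (g.stalkMap (f y)).hom)]
    (hreg : IsRegularLocalRing (X.presheaf.stalk (f y) ⧸ (maximalIdeal (S.presheaf.stalk (g (f y)))).map (g.stalkMap (f y)).hom))
    (hci : CIRingLib.CIFib ((f ≫ g).stalkMap y).hom) :
    ∃ V : X.Opens, f y ∈ V ∧ Mor2.IsRegularClosedImmersion (f ∣_ V) := by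
  obtain ⟨V, hV, hyV, -⟩ := exists_isAffineOpen_mem_and_subset (x := g (f y)) (U := ⊤) trivial
  obtain ⟨W, hW, hyW, hWV⟩ := exists_isAffineOpen_mem_and_subset (x := f y) (U := g ⁻¹ᵁ V) hyV
  have hWY : IsAffineOpen (f ⁻¹ᵁ W) := hW.preimage f
  have e : f ⁻¹ᵁ W ≤ (f ≫ g) ⁻¹ᵁ V := (f.preimage_mono hWV).trans_eq (Scheme.Hom.comp_preimage f g V).symm
  letI := (g.appLE V W hWV).hom.toAlgebra
  haveI : Module.Flat Γ(S, V) Γ(X, W) := g.flat_appLE hV hW hWV
  haveI : Algebra.FinitePresentation Γ(S, V) Γ(X, W) := g.finitePresentation_appLE hV hW hWV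
  letI := ((f ≫ g).appLE V (f ⁻¹ᵁ W) e).hom.toAlgebra
  haveI : Module.Flat Γ(S, V) Γ(Y, f ⁻¹ᵁ W) := (f ≫ g).flat_appLE hV hWY e
  haveI : Algebra.FinitePresentation Γ(S, V) Γ(Y, f ⁻¹ᵁ W) := (f ≫ g).finitePresentation_appLE hV hWY e
  let σ : Γ(X, W) →ₐ[Γ(S, V)] Γ(Y, f ⁻¹ᵁ W) :=
    { (f.appLE W (f ⁻¹ᵁ W) le_rfl).hom with
      commutes' := fun a =>
        (congrArg (fun φ : Γ(S, V) ⟶ Γ(Y, f ⁻¹ᵁ W) => φ.hom a)
          (Scheme.Hom.appLE_comp_appLE f g V W (f ⁻¹ᵁ W) hWV le_rfl) : _) }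
  have hσ : Function.Surjective σ := by
    show Function.Surjective (f.appLE W (f ⁻¹ᵁ W) le_rfl).hom
    rw [← Scheme.Hom.app_eq_appLE]
    exact f.app_surjective W hW
  let I := RingHom.ker σ.toRingHom
  have hI : I.FG := Algebra.FinitePresentation.ker_fG_of_surjective σ hσ
  let qY := (hWY.primeIdealOf ⟨y, hyW⟩).asIdeal
  let Q := (hW.primeIdealOf ⟨f y, hyW⟩).asIdeal
  have hqQ : qY.comap σ.toRingHom = Q :=
    congrArg PrimeSpectrum.asIdeal (IsAffineOpen.comap_primeIdealOf_appLE (f := f) W hW (f ⁻¹ᵁ W) hWY le_rfl hyW)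
  have hIQ : I ≤ Q := fun a ha => by
    rw [← hqQ, Ideal.mem_comap, show σ.toRingHom a = 0 from ha]
    exact zero_mem _
  let p := Q.comap (algebraMap Γ(S, V) Γ(X, W))
  have hp : p = qY.comap (algebraMap Γ(S, V) Γ(Y, f ⁻¹ᵁ W)) := by
    rw [show p = Q.comap (algebraMap Γ(S, V) Γ(X, W)) from rfl, ← hqQ, Ideal.comap_comap]
    exact congrArg (fun φ => Ideal.comap φ qY) σ.comp_algebraMap
  let Q₀ := PrimeSpectrum.preimageHomeomorphFiber Γ(S, V) Γ(X, W) ⟨p, inferInstance⟩ ⟨hW.primeIdealOf ⟨f y, hyW⟩, rfl⟩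
  let QF : Ideal (p.Fiber Γ(X, W)) := Q₀.asIdeal
  haveI : QF.IsPrime := Q₀.isPrime
  have hQF : QF.comap (Algebra.TensorProduct.includeRight : Γ(X, W) →ₐ[Γ(S, V)] p.Fiber Γ(X, W)).toRingHom = Q := by
    have e := (PrimeSpectrum.preimageHomeomorphFiber Γ(S, V) Γ(X, W) ⟨p, inferInstance⟩).symm_apply_apply
      ⟨hW.primeIdealOf ⟨f y, hyW⟩, rfl⟩
    exact congrArg (fun z => (Subtype.val z).asIdeal) e
  let φ : p.Fiber Γ(X, W) →ₐ[p.ResidueField] p.Fiber Γ(Y, f ⁻¹ᵁ W) := Algebra.TensorProduct.map (AlgHom.id _ _) σ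
  have hφ : Function.Surjective φ :=
    LinearMap.lTensor_surjective p.ResidueField (g := σ.toLinearMap) hσ
  have hkφ : RingHom.ker φ.toRingHom =
      I.map (Algebra.TensorProduct.includeRight : Γ(X, W) →ₐ[Γ(S, V)] p.Fiber Γ(X, W)).toRingHom :=
    Algebra.TensorProduct.lTensor_ker (A := p.ResidueField) σ hσ
  have hkle : RingHom.ker φ.toRingHom ≤ QF := hkφ ▸ Ideal.map_le_iff_le_comap.2 (hIQ.trans hQF.ge)
  haveI : (QF.map φ.toRingHom).IsPrime := Ideal.map_isPrime_of_surjective hφ hkle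
  have hQ' : (QF.map φ.toRingHom).comap φ.toRingHom = QF := by
    rw [Ideal.comap_map_of_surjective φ.toRingHom hφ, ← RingHom.ker_eq_comap_bot, sup_eq_left.2 hkle]
  have hQC : (QF.map φ.toRingHom).comap
      (Algebra.TensorProduct.includeRight : Γ(Y, f ⁻¹ᵁ W) →ₐ[Γ(S, V)] p.Fiber Γ(Y, f ⁻¹ᵁ W)).toRingHom = qY := by
    refine Ideal.comap_injective_of_surjective σ.toRingHom hσ (Eq.trans ?_ hqQ.symm)
    show ((QF.map φ.toRingHom).comap φ.toRingHom).comap (Algebra.TensorProduct.includeRight : Γ(X, W) →ₐ[Γ(S, V)] p.Fiber Γ(X, W)).toRingHom = Q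
    rw [hQ', hQF]
  obtain ⟨π, hπ, hπker, -⟩ := TransLib.exists_localPresentation φ hφ (QF.map φ.toRingHom) QF hQ'
  obtain ⟨eX⟩ := exists_fib_point g hV hW hWV (f y) hyW Q rfl p rfl QF hQF
  haveI := hreg
  haveI : IsRegularLocalRing (Localization.AtPrime QF) := IsRegularLocalRing.of_ringEquiv eX.symm
  obtain ⟨eY⟩ := exists_fib_point (f ≫ g) hV hWY e y hyW qY rfl p hp (QF.map φ.toRingHom) hQC
  obtain ⟨_, hc⟩ := hci
  haveI : IsNoetherianRing (p.Fiber Γ(Y, f ⁻¹ᵁ W)) := Algebra.FiniteType.isNoetherianRing p.ResidueField _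
  haveI : IsNoetherianRing (Localization.AtPrime (QF.map φ.toRingHom)) :=
    IsLocalization.isNoetherianRing (QF.map φ.toRingHom).primeCompl _ inferInstance
  obtain ⟨rs, hrs, hrsI⟩ := (CIRingLib.isCompleteIntersection_iff (B := Localization.AtPrime QF) π.toRingHom hπ).1
    ((CIRingLib.isCompleteIntersection_congr_iff eY).2 hc)
  let ω : (Γ(X, W) ⧸ I) ≃ₐ[Γ(S, V)] Γ(Y, f ⁻¹ᵁ W) := Ideal.quotientKerAlgEquivOfSurjective hσ
  let q : Ideal (Γ(X, W) ⧸ I) := qY.comap ω.toAlgHom.toRingHom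
  have hq : q.comap (Ideal.Quotient.mk I) = Q := by
    rw [← hqQ]; rfl
  haveI : q.IsPrime := Ideal.comap_isPrime ω.toAlgHom.toRingHom qY
  haveI : Module.Flat Γ(S, V) (Γ(X, W) ⧸ I) := Module.Flat.of_linearEquiv ω.toLinearEquiv
  obtain ⟨a, ha, l, hl', hspan⟩ := exists_regular_away_of_regularFibre Q QF hQF I hI q hq
    (Module.Flat.trans Γ(S, V) (Γ(X, W) ⧸ I) _) ⟨rs, hrs, by rw [hrsI, hπker, hkφ, Ideal.map_map]⟩
  haveI := hW.isLocalization_basicOpen a
  let ε : Localization.Away a ≃ₐ[Γ(X, W)] Γ(X, X.basicOpen a) := IsLocalization.algEquiv (Submonoid.powers a) _ _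
  have key : f y ∈ X.basicOpen a := by
    have e := hW.fromSpec_primeIdealOf ⟨f y, hyW⟩
    change hW.fromSpec _ = f y at e
    rw [← e, ← Scheme.Hom.mem_preimage, hW.fromSpec_preimage_basicOpen]
    exact (PrimeSpectrum.mem_basicOpen _ _).2 ha
  refine ⟨X.basicOpen a, key, ?_⟩
  have hker : RingHom.ker (f.app (X.basicOpen a)).hom = Ideal.ofList (l.map ε.toRingEquiv) := by
    have hb := f.ker.map_ideal_basicOpen ⟨W, hW⟩ a
    rw [Scheme.Hom.ker_apply, Scheme.Hom.ker_apply] at hb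
    refine hb.symm.trans ?_
    have e1 : (X.presheaf.map (homOfLE (X.basicOpen_le a)).op).hom =
        ε.toRingEquiv.toRingHom.comp (algebraMap Γ(X, W) (Localization.Away a)) :=
      RingHom.ext fun c => (ε.commutes c).symm
    have e2 : RingHom.ker (f.app W).hom = I := by
      rw [show I = RingHom.ker (f.appLE W (f ⁻¹ᵁ W) le_rfl).hom from rfl, ← Scheme.Hom.app_eq_appLE]
    rw [e1, e2, ← Ideal.map_map, hspan, Ideal.map_ofList]
    rfl
  have hcl : IsClosedImmersion (f ∣_ X.basicOpen a) :=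
    MorphismProperty.of_isPullback (isPullback_morphismRestrict f _).flip ‹IsClosedImmersion f›
  refine ⟨hcl, fun z => ⟨⊤, ?_, trivial, ?_⟩⟩
  · haveI : IsAffine (X.basicOpen a).toScheme := hW.basicOpen a
    exact isAffineOpen_top _
  · have key2 : ∀ D : X.Opens, D = X.basicOpen a → ∃ rs : List Γ(X, D),
        RingTheory.Sequence.IsRegular Γ(X, D) rs ∧ RingHom.ker (f.app D).hom = Ideal.ofList rs := by
      rintro D rfl
      exact ⟨_, TransLib.isRegular_of_ringEquiv ε.toRingEquiv hl', hker⟩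
    obtain ⟨rs, hrs, hk⟩ := key2 ((X.basicOpen a).ι ''ᵁ ⊤) (X.basicOpen a).ι_image_top
    refine ⟨rs, hrs, ?_⟩
    rw [Scheme.Hom.ker_apply, morphismRestrict_app]
    refine Eq.trans ?_ hk
    erw [CommRingCat.hom_comp]
    refine RingHom.ker_comp_of_injective _ ?_
    rw [eqToHom_op, eqToHom_map]
    have key3 : ∀ {R R' : CommRingCat.{u}} (h : R = R'), Function.Injective (eqToHom h).hom := fun h => by
      subst h; exact fun _ _ hh => hh
    exact key3 _

end RelRegLib
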