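import Groth.Agent.KRLib.ImmFlat
import Groth.Prelude.Def_Mor2
import Mathlib

/-!
# Regular closed immersions: flat base change and composition
-/

set_option autoImplicit false
set_option linter.style.haveILetI false

universe u

open RingTheory.Sequence CategoryTheory CategoryTheory.Limits AlgebraicGeometry

namespace RelRegLib

theorem isWeaklyRegular_append_lift {P R : Type u} [CommRing P] [CommRing R] (σ : P →+* R)
    (hσ : Function.Surjective σ) {l m : List P} (hl : IsWeaklyRegular P l) (hker : RingHom.ker σ = Ideal.ofList l)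
    (hm : IsWeaklyRegular R (m.map σ)) : IsWeaklyRegular P (l ++ m) := by
  rw [isWeaklyRegular_append_iff]
  refine ⟨hl, ?_⟩
  letI := σ.toAlgebra
  let e : (P ⧸ Ideal.ofList l • (⊤ : Submodule P P)) ≃ₗ[P] R :=
    (Submodule.quotEquivOfEq _ _ (by
      rw [smul_eq_mul, Ideal.mul_top, ← hker]
      rfl)).trans ((Algebra.linearMap P R).quotKerEquivOfSurjective hσ)
  exact (e.isWeaklyRegular_congr m).2 ((isWeaklyRegular_map_algebraMap_iff R R m).1 hm)

variable {X Y Z : Scheme.{u}}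

/-- An affine open on which the kernel is generated by a weakly regular sequence. -/
def RCh (i : Z ⟶ X) (U : X.Opens) : Prop :=
  IsAffineOpen U ∧ ∃ l : List Γ(X, U), IsWeaklyRegular Γ(X, U) l ∧ RingHom.ker (i.app U).hom = Ideal.ofList l

theorem isRegularClosedImmersion_iff (i : Z ⟶ X) :
    Mor2.IsRegularClosedImmersion i ↔ IsClosedImmersion i ∧ ∀ z : Z, ∃ U : X.Opens, i z ∈ U ∧ RCh i U := by
  refine and_congr_right fun hi => forall_congr' fun z => ?_
  haveI := hi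
  constructor
  · rintro ⟨U, hU, hz, l, hl, he⟩
    rw [Scheme.Hom.ker_apply] at he
    exact ⟨U, hz, hU, l, hl.toIsWeaklyRegular, he⟩
  · rintro ⟨U, hz, hU, l, hl, he⟩
    refine ⟨U, hU, hz, l, ⟨hl, fun htop => ?_⟩, by rw [Scheme.Hom.ker_apply]; exact he⟩
    rw [smul_eq_mul, Ideal.mul_top, ← he, eq_comm, Ideal.eq_top_iff_one, RingHom.mem_ker, map_one] at htop
    have h1 : z ∈ Z.basicOpen (1 : Γ(Z, i ⁻¹ᵁ U)) := by
      rw [Scheme.basicOpen_of_isUnit Z isUnit_one]; exact hz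
    rw [htop, Scheme.basicOpen_zero] at h1
    exact h1

theorem RCh.basicOpen {i : Z ⟶ X} [IsClosedImmersion i] {U : X.Opens} (h : RCh i U) (g : Γ(X, U)) :
    RCh i (X.basicOpen g) := by
  obtain ⟨hU, l, hl, he⟩ := h
  obtain ⟨-, -, h3⟩ := KRLib.basicOpen_data i hU (hU.preimage i) (i.app_surjective U hU) g
  letI : Algebra Γ(X, U) Γ(X, X.basicOpen g) :=
    (X.presheaf.map (homOfLE (X.basicOpen_le g)).op).hom.toAlgebra
  haveI : IsLocalization.Away g Γ(X, X.basicOpen g) := hU.isLocalization_basicOpen g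
  haveI : Module.Flat Γ(X, U) Γ(X, X.basicOpen g) := IsLocalization.flat _ (Submonoid.powers g)
  refine ⟨hU.basicOpen g, _, IsWeaklyRegular.of_flat (S := Γ(X, X.basicOpen g)) hl, ?_⟩
  rw [h3, he, Ideal.map_ofList]
  rfl

theorem isRegularClosedImmersion_comp (i : Z ⟶ Y) (j : Y ⟶ X) (hi : Mor2.IsRegularClosedImmersion i)
    (hj : Mor2.IsRegularClosedImmersion j) : Mor2.IsRegularClosedImmersion (i ≫ j) := by
  rw [isRegularClosedImmersion_iff] at hi hj ⊢
  obtain ⟨hic, hi⟩ := hi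
  obtain ⟨hjc, hj⟩ := hj
  haveI := hic
  haveI := hjc
  refine ⟨inferInstance, fun z => ?_⟩
  obtain ⟨V, hzV, hV⟩ := hi z
  obtain ⟨U, hzU, hU⟩ := hj (i z)
  obtain ⟨γ, δ, e, hmem⟩ := exists_basicOpen_le_affine_inter (hU.1.preimage j) hV.1 (i z) ⟨hzU, hzV⟩
  obtain ⟨g, rfl⟩ := j.app_surjective U hU.1 γ
  have hjW := hU.basicOpen g
  have hiW := hV.basicOpen δ
  have hpre : j ⁻¹ᵁ X.basicOpen g = Y.basicOpen δ := (Scheme.preimage_basicOpen j g).trans e
  rw [← hpre] at hiW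
  obtain ⟨-, l, hl, hle⟩ := hjW
  obtain ⟨-, m', hm, hme⟩ := hiW
  have hs := j.app_surjective _ (hU.1.basicOpen g)
  obtain ⟨m, rfl⟩ : ∃ m : List Γ(X, X.basicOpen g), m.map (j.app (X.basicOpen g)).hom = m' :=
    ⟨m'.map (Function.surjInv hs), by rw [List.map_map]; exact (List.map_congr_left fun x _ => Function.surjInv_eq hs x).trans (List.map_id _)⟩
  refine ⟨X.basicOpen g, ?_, hU.1.basicOpen g, l ++ m, isWeaklyRegular_append_lift _ hs hl hle hm, ?_⟩
  · show i z ∈ j ⁻¹ᵁ X.basicOpen g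
    rw [Scheme.preimage_basicOpen j g]
    exact hmem
  · change RingHom.ker ((i.app (j ⁻¹ᵁ X.basicOpen g)).hom.comp (j.app (X.basicOpen g)).hom) = _
    rw [← RingHom.comap_ker, hme, ← Ideal.map_ofList, Ideal.comap_map_of_surjective _ hs, ← RingHom.ker_eq_comap_bot,
      hle, Ideal.ofList_append, sup_comm]

theorem isRegularClosedImmersion_baseChange {X' Z' : Scheme.{u}} {i : Z ⟶ X} {g : X' ⟶ X} [Flat g] {g' : Z' ⟶ Z}
    {i' : Z' ⟶ X'} (hsq : IsPullback g' i' i g) (hi : Mor2.IsRegularClosedImmersion i) :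
    Mor2.IsRegularClosedImmersion i' := by
  rw [isRegularClosedImmersion_iff] at hi ⊢
  obtain ⟨hic, hi⟩ := hi
  haveI := hic
  haveI hic' : IsClosedImmersion i' := MorphismProperty.of_isPullback hsq hic
  refine ⟨hic', fun z => ?_⟩
  obtain ⟨U, hzU, hU, l, hl, he⟩ := hi (g' z)
  have hz : g (i' z) ∈ U := by rw [← Scheme.Hom.comp_apply, ← hsq.w, Scheme.Hom.comp_apply]; exact hzU
  obtain ⟨W, hW, hzW, hWU⟩ := exists_isAffineOpen_mem_and_subset (x := i' z) (U := g ⁻¹ᵁ U) hz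
  obtain ⟨-, -, h3⟩ := KRLib.baseChange_data hsq hU (hU.preimage i) (i.app_surjective U hU) hW hWU
  letI := (g.appLE U W hWU).hom.toAlgebra
  haveI : Module.Flat Γ(X, U) Γ(X', W) := g.flat_appLE hU hW hWU
  refine ⟨W, hzW, hW, _, IsWeaklyRegular.of_flat (S := Γ(X', W)) hl, ?_⟩
  rw [h3, he, Ideal.map_ofList]
  rfl

end RelRegLib
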