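import Groth.Agent.TransLib.PointNhd
import Groth.Agent.TransLib.PointSeq
import Groth.Agent.TransLib.Congr
import Groth.Agent.TransLib.SyntLCI
import Groth.Agent.TransLib.RelGCI
import Groth.Agent.TransLib.CIEquiv
import Groth.Agent.KoszAtLib.Ring
import Groth.Agent.KRLib.FF
import Groth.Agent.KRLib.Seq
import Groth.Agent.CohenLib.RegularField
import Mathlib

/-!
# Sequences which are regular on a fibre of a smooth algebra are regular nearby, over any base
-/

set_option autoImplicit false
set_option linter.style.haveILetI false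

universe u

open KoszDetLib KRLib RingTheory.Sequence IsLocalRing TensorProduct

namespace RelRegLib

variable {R : Type u} [CommRing R]

/-- A minimal family of generators is no longer than any other one. -/
theorem le_of_minimalAt {q : Ideal R} [hq : q.IsPrime] {m n : ℕ} {f : Fin m → R} {h : Fin n → R}
    (hf : MinimalAt f q) (he : Ideal.span (Set.range f) = Ideal.span (Set.range h)) : m ≤ n := by
  classical
  choose a ha using fun i => Ideal.mem_span_range_iff_exists_fun.1 (he.le (Ideal.subset_span ⟨i, rfl⟩) : f i ∈ Ideal.span (Set.range h))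
  choose b hb using fun j => Ideal.mem_span_range_iff_exists_fun.1 (he.ge (Ideal.subset_span ⟨j, rfl⟩) : h j ∈ Ideal.span (Set.range f))
  have hrel : ∀ i k, (Matrix.of a * Matrix.of b) i k - (1 : Matrix (Fin m) (Fin m) R) i k ∈ q := by
    intro i
    refine hf _ ?_
    simp only [sub_mul, Finset.sum_sub_distrib, Matrix.mul_apply, Finset.sum_mul, Matrix.of_apply]
    rw [Finset.sum_comm, sub_eq_zero]
    simp only [mul_assoc, ← Finset.mul_sum, hb, ha, Matrix.one_apply, ite_mul, one_mul, zero_mul,
      Finset.sum_ite_eq, Finset.mem_univ, if_true]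
  let σ := Ideal.Quotient.mk q
  have h1 : (Matrix.of a).map σ * (Matrix.of b).map σ = 1 := by
    rw [← Matrix.map_mul]
    refine Matrix.ext fun i k => ?_
    have h2 := Ideal.Quotient.eq.2 (hrel i k)
    show σ ((Matrix.of a * Matrix.of b) i k) = _
    rw [h2, Matrix.one_apply, Matrix.one_apply]
    split <;> simp
  refine le_of_fin_injective (R ⧸ q) (Matrix.vecMulLinear ((Matrix.of a).map σ)) fun x y hxy => ?_
  have h2 := congrArg (Matrix.vecMulLinear ((Matrix.of b).map σ)) hxy
  simp only [Matrix.vecMulLinear_apply, Matrix.vecMul_vecMul] at h2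
  rwa [h1, Matrix.vecMul_one, Matrix.vecMul_one] at h2

theorem eq_zero_of_isExactK_single {a : R} (ha : IsExactK (fun _ : Fin 1 => a)) {x : R} (hx : a * x = 0) :
    x = 0 := by
  let z : Kz R 1 := join (0, fun _ => x)
  obtain ⟨w, hw⟩ := ha z (join_ext (by
      rw [pa_D, pa_join, pb_join, map_zero, zero_add]
      funext s
      show a * x = (pa (0 : Kz R 1)) s
      rw [hx]
      rfl) (by
      rw [pb_D, pb_join]
      exact neg_eq_zero.2 rfl)) (Ideal.zero_mem _)
  have h1 := congrArg pb hw
  rw [pb_D, pb_join] at h1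
  have h2 := congrFun h1 ()
  exact h2.symm.trans (neg_eq_zero.2 rfl)

theorem range_castLE_succ {c i : ℕ} (h : i < c) (F : Fin c → R) :
    Set.range (fun j : Fin (i + 1) => F (Fin.castLE h j)) =
      Set.range (fun _ : Fin 1 => F ⟨i, h⟩) ∪ Set.range (fun j : Fin i => F (Fin.castLE h.le j)) := by
  ext x
  simp only [Set.mem_range, Set.mem_union]
  constructor
  · rintro ⟨j, rfl⟩
    induction j using Fin.lastCases with
    | last => exact Or.inl ⟨0, rfl⟩
    | cast j => exact Or.inr ⟨j, rfl⟩
  · rintro (⟨_, rfl⟩ | ⟨j, rfl⟩)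
    · exact ⟨Fin.last i, rfl⟩
    · exact ⟨j.castSucc, rfl⟩

theorem take_ofFn_eq {c i : ℕ} (h : i ≤ c) (F : Fin c → R) :
    (List.ofFn F).take i = List.ofFn (fun j : Fin i => F (Fin.castLE h j)) := by
  refine List.ext_getElem (by simp [h]) fun n h1 h2 => ?_
  simp

/-- A family whose initial segments are Koszul exact is a regular sequence. -/
theorem isWeaklyRegular_of_isExactK {c : ℕ} (F : Fin c → R)
    (h : ∀ i (hi : i ≤ c), IsExactK (fun j : Fin i => F (Fin.castLE hi j))) :
    IsWeaklyRegular R (List.ofFn F) := by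
  rw [isWeaklyRegular_iff]
  intro i hi
  have hc : i < c := by simpa using hi
  let f : Fin i → R := fun j => F (Fin.castLE hc.le j)
  let g : Fin 1 → R := fun _ => F ⟨i, hc⟩
  let f' : Fin (i + 1) → R := fun j => F (Fin.castLE hc j)
  have happ : IsExactK (app g f) := isExactK_of_length_eq (h (i + 1) hc) (by
    rw [range_app, range_castLE_succ hc F])
  have hs := isExactK_of_app (Ideal.Quotient.mk (Ideal.span (Set.range f))) f (h i hc.le)
    Ideal.mk_ker.symm Ideal.Quotient.mk_surjective g happ
  have hI : Ideal.ofList ((List.ofFn F).take i) • (⊤ : Submodule R R) = Ideal.span (Set.range f) := by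
    rw [take_ofFn_eq hc.le, smul_eq_mul, Ideal.mul_top, TransLib.ofList_ofFn]
  have hget : (List.ofFn F)[i] = F ⟨i, hc⟩ := by simp
  rw [hget]
  refine (isSMulRegular_quotient_iff_mem_of_smul_mem _ _).2 fun x hx => ?_
  rw [hI] at hx ⊢
  rw [← Ideal.Quotient.eq_zero_iff_mem] at hx ⊢
  refine eq_zero_of_isExactK_single (a := Ideal.Quotient.mk (Ideal.span (Set.range f)) (F ⟨i, hc⟩)) hs ?_
  rw [← map_mul]
  exact hx

section Fibre

variable {A B : Type u} [CommRing A] [CommRing B] [Algebra A B] (Q : Ideal B) [Q.IsPrime]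
  (QF : Ideal ((Q.comap (algebraMap A B)).Fiber B)) [QF.IsPrime]
  (hQF : QF.comap (Algebra.TensorProduct.includeRight : B →ₐ[A] (Q.comap (algebraMap A B)).Fiber B).toRingHom = Q)

/-- The map to the local ring of the fibre. -/
noncomputable abbrev toFib : B →+* Localization.AtPrime QF :=
  (algebraMap _ (Localization.AtPrime QF)).comp
    (Algebra.TensorProduct.includeRight : B →ₐ[A] (Q.comap (algebraMap A B)).Fiber B).toRingHom

include hQF in
theorem toFib_isUnit {s : B} (hs : s ∉ Q) : IsUnit (toFib Q QF s) :=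
  IsLocalization.map_units (Localization.AtPrime QF) (⟨_, fun h => hs (hQF ▸ h)⟩ : QF.primeCompl)

include hQF in
theorem toFib_mem {s : B} : toFib Q QF s ∈ maximalIdeal (Localization.AtPrime QF) ↔ s ∈ Q := by
  constructor
  · intro h
    by_contra hs
    exact (maximalIdeal.isMaximal (Localization.AtPrime QF)).ne_top
      (Ideal.eq_top_of_isUnit_mem _ h (toFib_isUnit Q QF hQF hs))
  · intro h
    exact (IsLocalization.AtPrime.to_map_mem_maximal_iff (Localization.AtPrime QF) QF _).2 (hQF.ge h)

theorem incl_algebraMap (r : A) :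
    (Algebra.TensorProduct.includeRight : B →ₐ[A] (Q.comap (algebraMap A B)).Fiber B) (algebraMap A B r) =
      algebraMap A ((Q.comap (algebraMap A B)).Fiber B) r :=
  AlgHom.commutes _ r

theorem toFib_algebraMap {r : A} (hr : r ∈ Q.comap (algebraMap A B)) : toFib Q QF (algebraMap A B r) = 0 := by
  show algebraMap _ (Localization.AtPrime QF) ((Algebra.TensorProduct.includeRight : B →ₐ[A] (Q.comap (algebraMap A B)).Fiber B) (algebraMap A B r)) = 0
  rw [incl_algebraMap, IsScalarTower.algebraMap_apply A (Q.comap (algebraMap A B)).ResidueField,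
    Ideal.algebraMap_residueField_eq_zero.2 hr, map_zero, map_zero]

theorem exists_num (y : (Q.comap (algebraMap A B)).Fiber B) :
    ∃ (r : A) (s : B), algebraMap A B r ∉ Q ∧
      algebraMap A ((Q.comap (algebraMap A B)).Fiber B) r * y = (1 : _) ⊗ₜ[A] s := by
  obtain ⟨r, hr, s, h⟩ := Ideal.Fiber.exists_smul_eq_one_tmul _ y
  exact ⟨r, s, hr, (Algebra.smul_def r y).symm.trans h⟩

include hQF in
theorem toFib_dense (z : Localization.AtPrime QF) :
    ∃ s ∈ Q.primeCompl, ∃ x, z * toFib Q QF s = toFib Q QF x := by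
  obtain ⟨⟨y, ⟨v, hv⟩⟩, hyv⟩ := IsLocalization.surj QF.primeCompl z
  obtain ⟨r, x, hr, hx⟩ := exists_num Q y
  obtain ⟨r', w, hr', hw⟩ := exists_num Q v
  have hwQ : w ∉ Q := fun h => by
    have h1 : (1 : (Q.comap (algebraMap A B)).ResidueField) ⊗ₜ[A] w ∈ QF := hQF.ge h
    rw [← hw] at h1
    rcases (inferInstance : QF.IsPrime).mem_or_mem h1 with h2 | h2
    · exact hr' (hQF.le (by
        show (Algebra.TensorProduct.includeRight : B →ₐ[A] (Q.comap (algebraMap A B)).Fiber B) (algebraMap A B r') ∈ QF
        rwa [incl_algebraMap]))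
    · exact hv h2
  refine ⟨w * algebraMap A B r, Q.primeCompl.mul_mem hwQ hr, x * algebraMap A B r', ?_⟩
  let ι : B →ₐ[A] (Q.comap (algebraMap A B)).Fiber B := Algebra.TensorProduct.includeRight
  show z * algebraMap _ (Localization.AtPrime QF) (ι (w * algebraMap A B r)) =
    algebraMap _ (Localization.AtPrime QF) (ι (x * algebraMap A B r'))
  rw [map_mul, map_mul, map_mul, map_mul, incl_algebraMap, incl_algebraMap,
    Algebra.TensorProduct.includeRight_apply, Algebra.TensorProduct.includeRight_apply, ← hw, ← hx, map_mul, map_mul]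
  linear_combination (algebraMap ((Q.comap (algebraMap A B)).Fiber B) (Localization.AtPrime QF) (algebraMap A _ r)) *
    (algebraMap ((Q.comap (algebraMap A B)).Fiber B) (Localization.AtPrime QF) (algebraMap A _ r')) * hyv

include hQF in
/-- Regularity in the local ring of the fibre, as a statement about the localised fibre module. -/
theorem regular_fibre_module (l : List B) (h : IsRegular (Localization.AtPrime QF) (l.map (toFib Q QF))) :
    IsRegular (LocalizedModule Q.primeCompl (B ⊗[A] (Q.comap (algebraMap A B)).ResidueField)) l := by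
  let F := (Q.comap (algebraMap A B)).Fiber B
  let T := Localization.AtPrime QF
  let e : B ⊗[A] (Q.comap (algebraMap A B)).ResidueField ≃ₐ[A] F := Algebra.TensorProduct.comm A _ _
  letI : Algebra B T := (toFib Q QF).toAlgebra
  let j : B ⊗[A] (Q.comap (algebraMap A B)).ResidueField →ₗ[B] T :=
    { toFun := fun x => algebraMap F T (e x)
      map_add' := fun x y => by rw [map_add, map_add]
      map_smul' := fun b x => by
        rw [RingHom.id_apply, Algebra.smul_def b x, map_mul, map_mul, Algebra.smul_def]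
        rfl }
  haveI : IsLocalizedModule Q.primeCompl j := by
    refine ⟨fun s => ?_, fun z => ?_, fun {x y} hxy => ?_⟩
    · have hu := toFib_isUnit Q QF hQF (s := (s : B)) s.2
      rw [Module.End.isUnit_iff]
      refine ⟨fun x y hxy => ?_, fun z => ⟨↑hu.unit⁻¹ * z, ?_⟩⟩
      · exact hu.mul_left_cancel hxy
      · show toFib Q QF s * (↑hu.unit⁻¹ * z) = z
        rw [← mul_assoc, IsUnit.mul_val_inv, one_mul]
    · obtain ⟨s, hs, x, hx⟩ := toFib_dense Q QF hQF z
      refine ⟨(x ⊗ₜ 1, ⟨s, hs⟩), ?_⟩
      show toFib Q QF s * z = algebraMap F T (e (x ⊗ₜ 1))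
      rw [mul_comm, hx]
      rfl
    · obtain ⟨⟨t, ht⟩, htxy⟩ := (IsLocalization.eq_iff_exists QF.primeCompl T).1 hxy
      obtain ⟨r, s, hr, hs⟩ := exists_num Q t
      refine ⟨⟨s, fun hsQ => ?_⟩, ?_⟩
      · have h1 : (1 : (Q.comap (algebraMap A B)).ResidueField) ⊗ₜ[A] s ∈ QF := hQF.ge hsQ
        rw [← hs] at h1
        rcases (inferInstance : QF.IsPrime).mem_or_mem h1 with h2 | h2
        · exact hr (hQF.le (by
            show (Algebra.TensorProduct.includeRight : B →ₐ[A] (Q.comap (algebraMap A B)).Fiber B) (algebraMap A B r) ∈ QF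
            rwa [incl_algebraMap]))
        · exact ht h2
      · show s • x = s • y
        apply e.injective
        rw [Algebra.smul_def s x, Algebra.smul_def s y, map_mul, map_mul]
        show (1 : _) ⊗ₜ[A] s * e x = (1 : _) ⊗ₜ[A] s * e y
        rw [← hs, mul_assoc, mul_assoc]
        exact congrArg _ htxy
  refine ((IsLocalizedModule.iso Q.primeCompl j).isRegular_congr l).2 ?_
  have hw := (isWeaklyRegular_map_algebraMap_iff T T l).1 h.toIsWeaklyRegular
  refine ⟨hw, fun htop => h.top_ne_smul ?_⟩
  rw [eq_comm, eq_top_iff]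
  intro x _
  have hx : x ∈ Ideal.ofList l • (⊤ : Submodule B T) := htop ▸ Submodule.mem_top
  rw [smul_eq_mul, Ideal.mul_top]
  refine Submodule.smul_induction_on hx (fun b hb y _ => ?_) fun a b ha hb => add_mem ha hb
  rw [← Ideal.map_ofList]
  exact Ideal.mul_mem_right y _ (Ideal.mem_map_of_mem (toFib Q QF) hb)

variable [Algebra.Smooth A B]

include QF in
theorem isRegularLocalRing_fib : IsRegularLocalRing (Localization.AtPrime QF) := by
  haveI : IsNoetherianRing ((Q.comap (algebraMap A B)).Fiber B) :=
    Algebra.FiniteType.isNoetherianRing (Q.comap (algebraMap A B)).ResidueField _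
  haveI : IsNoetherianRing (Localization.AtPrime QF) := IsLocalization.isNoetherianRing QF.primeCompl _ inferInstance
  haveI : Algebra.FormallySmooth ((Q.comap (algebraMap A B)).Fiber B) (Localization.AtPrime QF) :=
    Algebra.FormallySmooth.of_isLocalization QF.primeCompl
  haveI : Algebra.FormallySmooth (Q.comap (algebraMap A B)).ResidueField (Localization.AtPrime QF) :=
    Algebra.FormallySmooth.comp _ ((Q.comap (algebraMap A B)).Fiber B) _
  exact CohenLib.isRegularLocalRing_of_formallySmooth (k := (Q.comap (algebraMap A B)).ResidueField)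

include hQF in
/-- A sequence regular on the fibre is minimal. -/
theorem minimalAt_of_fib {c : ℕ} (F : Fin c → B) (hF : IsRegular (Localization.AtPrime QF) ((List.ofFn F).map (toFib Q QF))) :
    MinimalAt F Q := by
  have hl : (List.ofFn F).map (toFib Q QF) = List.ofFn (fun i => toFib Q QF (F i)) := List.map_ofFn
  rw [hl] at hF
  intro a ha i
  have hw : IsExactK (fun i => toFib Q QF (F i)) := by
    exact isExactK_cast (isExactK_of_isWeaklyRegular _ hF.toIsWeaklyRegular) (by simp) (fun j => (List.get_ofFn _ j).symm)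
  have h1 := coeff_mem_of_relation hw (fun j => toFib Q QF (a j)) (by
    simp only [← map_mul, ← map_sum, ha, map_zero]) i
  refine (toFib_mem Q QF hQF).1 (le_maximalIdeal ?_ h1)
  intro htop
  refine hF.top_ne_smul ?_
  rw [smul_eq_mul, Ideal.mul_top, TransLib.ofList_ofFn, htop]

end Fibre

end RelRegLib
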