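import Groth.Agent.RelRegLib.Nhd
import Groth.Agent.FlatLib.SliceMore
import Mathlib

/-!
# Ideals of flat closed subschemes of smooth algebras whose fibre is a complete intersection
-/

set_option autoImplicit false
set_option linter.style.haveILetI false

universe u

open KoszDetLib KRLib RingTheory.Sequence IsLocalRing TensorProduct

namespace RelRegLib

variable {A B : Type u} [CommRing A] [CommRing B] [Algebra A B] (Q : Ideal B) [Q.IsPrime]
  (QF : Ideal ((Q.comap (algebraMap A B)).Fiber B)) [QF.IsPrime]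
  (hQF : QF.comap (Algebra.TensorProduct.includeRight : B →ₐ[A] (Q.comap (algebraMap A B)).Fiber B).toRingHom = Q)

include hQF in
theorem exists_mul_mem_of_toFib_eq_zero {z : B} (hz : toFib Q QF z = 0) :
    ∃ s ∉ Q, s * z ∈ (Q.comap (algebraMap A B)).map (algebraMap A B) := by
  obtain ⟨⟨t, ht⟩, htz⟩ := (IsLocalization.map_eq_zero_iff QF.primeCompl (Localization.AtPrime QF) _).1 hz
  obtain ⟨r, w, hr, hw⟩ := exists_num Q t
  have h1 : (1 : (Q.comap (algebraMap A B)).ResidueField) ⊗ₜ[A] (w * z) = 0 := by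
    calc _ = ((1 : (Q.comap (algebraMap A B)).ResidueField) ⊗ₜ[A] w) * ((1 : _) ⊗ₜ[A] z) := by
          rw [Algebra.TensorProduct.tmul_mul_tmul, mul_one]
      _ = 0 := by
        rw [← hw, mul_assoc]
        exact mul_eq_zero_of_right _ htz
  obtain ⟨a, ha, haz⟩ := FlatLib.exists_smul_mem_of_tmul_eq_zero _ h1
  have hwQ : w ∉ Q := fun h => by
    have h2 : (1 : (Q.comap (algebraMap A B)).ResidueField) ⊗ₜ[A] w ∈ QF := hQF.ge h
    rw [← hw] at h2
    rcases (inferInstance : QF.IsPrime).mem_or_mem h2 with h3 | h3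
    · exact hr (hQF.le (by
        show (Algebra.TensorProduct.includeRight : B →ₐ[A] (Q.comap (algebraMap A B)).Fiber B) (algebraMap A B r) ∈ QF
        rwa [incl_algebraMap]))
    · exact ht h3
  refine ⟨algebraMap A B a * w, Q.primeCompl.mul_mem ha hwQ, ?_⟩
  rw [Ideal.smul_top_eq_map, Algebra.smul_def] at haz
  rw [mul_assoc]
  exact haz

include hQF in
/-- A finitely generated ideal with flat quotient is generated, near the point, by any lift of generators
of its image in the local ring of the fibre. -/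
theorem exists_mul_mem_span (I : Ideal B) (hI : I.FG) {c : ℕ} (f : Fin c → B) (hfI : ∀ i, f i ∈ I)
    (hgen : I.map (toFib Q QF) ≤ (Ideal.span (Set.range f)).map (toFib Q QF))
    (q : Ideal (B ⧸ I)) [q.IsPrime] (hq : q.comap (Ideal.Quotient.mk I) = Q)
    (hfl : Module.Flat A (Localization.AtPrime q)) :
    ∃ s ∉ Q, ∀ x ∈ I, s * x ∈ Ideal.span (Set.range f) := by
  classical
  let p := Q.comap (algebraMap A B)
  let J : Ideal B := Ideal.span (Set.range f)
  have hJI : J ≤ I := Ideal.span_le.2 (Set.range_subset_iff.2 hfI)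
  let T := Localization.AtPrime Q
  obtain ⟨π, hπ, hπker⟩ := TransLib.exists_localPresentation' (Ideal.Quotient.mkₐ A I) Ideal.Quotient.mk_surjective q Q hq
  let K : Ideal T := I.map (algebraMap B T)
  have hπK : RingHom.ker π.toRingHom = K := hπker.trans (congrArg _ Ideal.mk_ker)
  have hKJ : K ≤ J.map (algebraMap B T) := by
    refine Submodule.le_of_le_smul_of_le_jacobson_bot (I := p.map (algebraMap A T)) (hI.map _) ?_ ?_
    · refine le_trans ?_ (IsLocalRing.jacobson_eq_maximalIdeal (R := T) ⊥ bot_ne_top).ge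
      rw [Ideal.map_le_iff_le_comap]
      intro r hr
      rw [Ideal.mem_comap, IsScalarTower.algebraMap_apply A B T]
      exact (IsLocalization.AtPrime.to_map_mem_maximal_iff T Q _).2 hr
    · rw [show K = I.map (algebraMap B T) from rfl, Ideal.map_le_iff_le_comap]
      intro x hx
      rw [Ideal.mem_comap]
      have hd0 := toFib_dense Q QF hQF
      have hz : toFib Q QF x ∈ J.map (toFib Q QF) := hgen (Ideal.mem_map_of_mem (toFib Q QF) hx)
      obtain ⟨s, hs, j, hj, hsj⟩ := TransLib.exists_of_mem_map (P := B) (T := Localization.AtPrime QF) (I := J)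
        (z := toFib Q QF x) (toFib Q QF) Q.primeCompl hd0 hz
      obtain ⟨s', hs', hd⟩ := exists_mul_mem_of_toFib_eq_zero Q QF hQF (z := x * s - j)
        (by rw [map_sub, map_mul, hsj, sub_self])
      let w : T := algebraMap B T (s' * (x * s - j))
      have hw : w ∈ LinearMap.ker π.toLinearMap ⊓ p • (⊤ : Submodule A T) := by
        refine ⟨?_, ?_⟩
        · show π w = 0
          have : w ∈ RingHom.ker π.toRingHom :=
            hπK ▸ Ideal.mem_map_of_mem _ (I.mul_mem_left _ (sub_mem (I.mul_mem_right _ hx) (hJI hj)))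
          exact this
        · rw [Ideal.smul_top_eq_map]
          show w ∈ p.map (algebraMap A T)
          rw [IsScalarTower.algebraMap_eq A B T, ← Ideal.map_map]
          exact Ideal.mem_map_of_mem _ hd
      have hwK : w ∈ p.map (algebraMap A T) * K := by
        refine Submodule.smul_induction_on (TransLib.ker_inf_smul_le π.toLinearMap hπ p hw) (fun r hr y hy => ?_)
          fun a b ha hb => add_mem ha hb
        rw [Algebra.smul_def]
        exact Ideal.mul_mem_mul (Ideal.mem_map_of_mem _ hr) (hπK ▸ hy)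
      have hu : IsUnit (algebraMap B T (s' * s)) :=
        IsLocalization.map_units T (⟨s' * s, Q.primeCompl.mul_mem hs' hs⟩ : Q.primeCompl)
      rw [← Ideal.mul_unit_mem_iff_mem _ hu, ← map_mul, show x * (s' * s) = s' * j + s' * (x * s - j) by ring,
        map_add, smul_eq_mul]
      exact Submodule.add_mem_sup (Ideal.mem_map_of_mem _ (J.mul_mem_left _ hj)) hwK
  obtain ⟨t, ht⟩ := hI
  have h1 : ∀ x : t, ∃ s ∉ Q, s * (x : B) ∈ J := fun x =>
    (IsLocalization.algebraMap_mem_map_algebraMap_iff Q.primeCompl T J _).1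
      (hKJ (Ideal.mem_map_of_mem _ (ht ▸ Ideal.subset_span x.2)))
  choose s hsb hsJ using h1
  refine ⟨∏ x : t, s x, prod_mem (S := Q.primeCompl) fun x _ => hsb x, fun x hx => ?_⟩
  have hx' : x ∈ Submodule.span B (t : Set B) := by
    show x ∈ Ideal.span (t : Set B)
    rw [ht]; exact hx
  refine (Submodule.span_le (p := Submodule.comap (LinearMap.mulLeft B (∏ x : t, s x)) J)).2 (fun z hz => ?_) hx'
  show (∏ x : t, s x) * z ∈ J
  obtain ⟨d, hd⟩ : s ⟨z, hz⟩ ∣ ∏ x : t, s x := Finset.dvd_prod_of_mem s (Finset.mem_univ _)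
  rw [hd, mul_right_comm]
  exact J.mul_mem_right d (hsJ ⟨z, hz⟩)

variable [Algebra.Smooth A B]

include hQF in
/-- **Relatively regular immersions are regular**: a finitely generated ideal of a smooth algebra whose
quotient is flat at a point and a complete intersection in the fibre there is generated by a regular
sequence near the point. -/
theorem exists_regular_away (I : Ideal B) (hI : I.FG)
    (q : Ideal (B ⧸ I)) [q.IsPrime] (hq : q.comap (Ideal.Quotient.mk I) = Q)
    (hfl : Module.Flat A (Localization.AtPrime q))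
    (hrs : ∃ rs : List (Localization.AtPrime QF), IsRegular (Localization.AtPrime QF) rs ∧
      Ideal.ofList rs = I.map (toFib Q QF)) :
    ∃ g : B, g ∉ Q ∧ ∃ l : List (Localization.Away g), IsRegular (Localization.Away g) l ∧
      I.map (algebraMap B (Localization.Away g)) = Ideal.ofList l := by
  obtain ⟨rs, hreg, hspan⟩ := hrs
  have hIQ : I ≤ Q := fun x hx => by
    rw [← hq, Ideal.mem_comap, Ideal.Quotient.eq_zero_iff_mem.2 hx]
    exact zero_mem _
  have hmem : ∀ j : Fin rs.length, ∃ f ∈ I, Associated (toFib Q QF f) (rs.get j) := fun j => by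
    have h1 : rs.get j ∈ I.map (toFib Q QF) := hspan.le (Ideal.subset_span (List.get_mem rs j))
    have hd0 := toFib_dense Q QF hQF
    obtain ⟨s, hs, f, hf, hsf⟩ := TransLib.exists_of_mem_map (P := B) (T := Localization.AtPrime QF) (I := I)
      (z := rs.get j) (toFib Q QF) Q.primeCompl hd0 h1
    exact ⟨f, hf, ⟨(toFib_isUnit Q QF hQF hs).unit⁻¹, by rw [← hsf, mul_assoc, IsUnit.mul_val_inv, mul_one]⟩⟩
  choose f hfI hass using hmem
  have hgen : I.map (toFib Q QF) ≤ (Ideal.span (Set.range f)).map (toFib Q QF) := by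
    rw [← hspan]
    refine (CommAlgDim.ofList_le_iff (R := Localization.AtPrime QF)).2 fun x hx => ?_
    obtain ⟨j, rfl⟩ := List.mem_iff_get.1 hx
    exact Ideal.mem_of_dvd _ (hass j).dvd (Ideal.mem_map_of_mem _ (Ideal.subset_span ⟨j, rfl⟩))
  obtain ⟨s, hs, hsJ⟩ := exists_mul_mem_span Q QF hQF I hI f hfI hgen q hq hfl
  haveI := isRegularLocalRing_fib Q QF
  have hF : IsRegular (Localization.AtPrime QF) ((List.ofFn f).map (toFib Q QF)) := by
    refine CommAlgDim.isRegular_of_dim (CommAlgDim.isCM_of_isRegularLocalRing _)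
      (fun x hx => ?_) ?_
    · obtain ⟨b, hb, rfl⟩ := List.mem_map.1 hx
      obtain ⟨i, rfl⟩ := List.mem_ofFn.1 hb
      exact (toFib_mem Q QF hQF).2 (hIQ (hfI i))
    · have e1 : Ideal.ofList ((List.ofFn f).map (toFib Q QF)) = Ideal.ofList rs := by
        rw [← Ideal.map_ofList, TransLib.ofList_ofFn]
        exact le_antisymm ((Ideal.map_mono (Ideal.span_le.2 (Set.range_subset_iff.2 hfI))).trans hspan.ge)
          (hspan.le.trans hgen)
      rw [e1, List.length_map, List.length_ofFn]
      exact le_of_eq (ringKrullDim_add_length_eq_ringKrullDim_of_isRegular rs hreg)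
  obtain ⟨g, hg, hw⟩ := exists_isWeaklyRegular_away Q QF hQF f (fun i => hIQ (hfI i)) hF
  let L := Localization.Away (g * s)
  have hu : IsUnit (algebraMap B L g) ∧ IsUnit (algebraMap B L s) :=
    IsUnit.mul_iff.1 (map_mul (algebraMap B L) g s ▸ IsLocalization.Away.algebraMap_isUnit (g * s))
  have hgs : g * s ∉ Q := Q.primeCompl.mul_mem hg hs
  refine ⟨g * s, hgs, (List.ofFn f).map (algebraMap B L), ⟨?_, ?_⟩, ?_⟩
  · let U := Localization.Away g
    letI : Algebra U L := (IsLocalization.Away.lift g hu.1).toAlgebra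
    haveI : IsScalarTower B U L :=
      IsScalarTower.of_algebraMap_eq fun x => (IsLocalization.Away.lift_eq g hu.1 x).symm
    haveI : Module.Flat U L :=
      (Module.flat_iff_of_isLocalization U (Submonoid.powers g) L).mpr inferInstance
    have h2 := IsWeaklyRegular.of_flat (S := L) hw
    rw [List.map_map, ← RingHom.coe_comp, ← IsScalarTower.algebraMap_eq B U L] at h2
    exact h2
  · intro htop
    rw [smul_eq_mul, Ideal.mul_top, ← Ideal.map_ofList] at htop
    refine (IsLocalization.map_algebraMap_ne_top_iff_disjoint (Submonoid.powers (g * s)) L _).2 ?_ htop.symm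
    rw [Set.disjoint_left]
    rintro x ⟨k, rfl⟩ hx
    exact hgs ((inferInstance : Q.IsPrime).mem_of_pow_mem k
      ((CommAlgDim.ofList_le_iff.2 (List.forall_mem_ofFn_iff.2 fun i => hIQ (hfI i))) hx))
  · rw [← Ideal.map_ofList, TransLib.ofList_ofFn]
    refine le_antisymm (Ideal.map_le_iff_le_comap.2 fun x hx => ?_)
      (Ideal.map_mono (Ideal.span_le.2 (Set.range_subset_iff.2 hfI)))
    rw [Ideal.mem_comap, ← Ideal.mul_unit_mem_iff_mem _ hu.2, ← map_mul, mul_comm x s]
    exact Ideal.mem_map_of_mem _ (hsJ x hx)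

end RelRegLib
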