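import Groth.Agent.RelRegLib.Gen
import Groth.Agent.RelRegLib.Comp
import Groth.Agent.CIRingLib.Fibres
import Groth.Agent.CIRingLib.Localization
import Mathlib

/-!
# Regular immersions into flat schemes at points where the fibre is regular
-/

set_option autoImplicit false
set_option linter.style.haveILetI false

universe u

open KoszDetLib KRLib RingTheory.Sequence IsLocalRing TensorProduct

namespace RelRegLib

variable {A B : Type u} [CommRing A] [CommRing B] [Algebra A B] (Q : Ideal B) [Q.IsPrime]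
  (QF : Ideal ((Q.comap (algebraMap A B)).Fiber B)) [QF.IsPrime]
  (hQF : QF.comap (Algebra.TensorProduct.includeRight : B →ₐ[A] (Q.comap (algebraMap A B)).Fiber B).toRingHom = Q)

include hQF in
/-- Regular generators in the local ring of the fibre lift to the ideal. -/
theorem exists_lifts_fib [IsRegularLocalRing (Localization.AtPrime QF)] (I : Ideal B) (hIQ : I ≤ Q)
    (hrs : ∃ rs : List (Localization.AtPrime QF), IsRegular (Localization.AtPrime QF) rs ∧
      Ideal.ofList rs = I.map (toFib Q QF)) :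
    ∃ (c : ℕ) (f : Fin c → B), (∀ i, f i ∈ I) ∧
      IsRegular (Localization.AtPrime QF) ((List.ofFn f).map (toFib Q QF)) ∧
      I.map (toFib Q QF) = (Ideal.span (Set.range f)).map (toFib Q QF) := by
  obtain ⟨rs, hreg, hspan⟩ := hrs
  have hmem : ∀ j : Fin rs.length, ∃ f ∈ I, Associated (toFib Q QF f) (rs.get j) := fun j => by
    have h1 : rs.get j ∈ I.map (toFib Q QF) := hspan.le (Ideal.subset_span (List.get_mem rs j))
    have hd0 := toFib_dense Q QF hQF
    obtain ⟨s, hs, f, hf, hsf⟩ := TransLib.exists_of_mem_map (P := B) (T := Localization.AtPrime QF) (I := I)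
      (z := rs.get j) (toFib Q QF) Q.primeCompl hd0 h1
    exact ⟨f, hf, ⟨(toFib_isUnit Q QF hQF hs).unit⁻¹, by rw [← hsf, mul_assoc, IsUnit.mul_val_inv, mul_one]⟩⟩
  choose f hfI hass using hmem
  have hle : (Ideal.span (Set.range f)).map (toFib Q QF) ≤ I.map (toFib Q QF) :=
    Ideal.map_mono (Ideal.span_le.2 (Set.range_subset_iff.2 hfI))
  have hgen : I.map (toFib Q QF) ≤ (Ideal.span (Set.range f)).map (toFib Q QF) := by
    rw [← hspan]
    refine (CommAlgDim.ofList_le_iff (R := Localization.AtPrime QF)).2 fun x hx => ?_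
    obtain ⟨j, rfl⟩ := List.mem_iff_get.1 hx
    exact Ideal.mem_of_dvd _ (hass j).dvd (Ideal.mem_map_of_mem _ (Ideal.subset_span ⟨j, rfl⟩))
  refine ⟨rs.length, f, hfI, ?_, le_antisymm hgen hle⟩
  refine CommAlgDim.isRegular_of_dim (CommAlgDim.isCM_of_isRegularLocalRing _) (fun x hx => ?_) ?_
  · obtain ⟨b, hb, rfl⟩ := List.mem_map.1 hx
    obtain ⟨i, rfl⟩ := List.mem_ofFn.1 hb
    exact (toFib_mem Q QF hQF).2 (hIQ (hfI i))
  · rw [show Ideal.ofList ((List.ofFn f).map (toFib Q QF)) = Ideal.ofList rs by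
      rw [← Ideal.map_ofList, TransLib.ofList_ofFn, hspan]
      exact le_antisymm hle hgen, List.length_map, List.length_ofFn]
    exact le_of_eq (ringKrullDim_add_length_eq_ringKrullDim_of_isRegular rs hreg)

omit [Q.IsPrime] in
theorem isWeaklyRegular_of_append_lift {P R : Type u} [CommRing P] [CommRing R] (σ : P →+* R)
    (hσ : Function.Surjective σ) {l m : List P} (h : IsWeaklyRegular P (l ++ m))
    (hker : RingHom.ker σ = Ideal.ofList l) : IsWeaklyRegular R (m.map σ) := by
  rw [isWeaklyRegular_append_iff] at h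
  letI := σ.toAlgebra
  let e : (P ⧸ Ideal.ofList l • (⊤ : Submodule P P)) ≃ₗ[P] R :=
    (Submodule.quotEquivOfEq _ _ (by
      rw [smul_eq_mul, Ideal.mul_top, ← hker]
      rfl)).trans ((Algebra.linearMap P R).quotKerEquivOfSurjective hσ)
  exact (isWeaklyRegular_map_algebraMap_iff R R m).2 ((e.isWeaklyRegular_congr m).1 h.2)

variable [Algebra.FinitePresentation A B] [Module.Flat A B]

include hQF in
/-- **Relatively regular immersions are regular**, at a point where the fibre of the ambient is regular. -/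
theorem exists_regular_away_of_regularFibre [IsRegularLocalRing (Localization.AtPrime QF)]
    (I : Ideal B) (hI : I.FG)
    (q : Ideal (B ⧸ I)) [q.IsPrime] (hq : q.comap (Ideal.Quotient.mk I) = Q)
    (hfl : Module.Flat A (Localization.AtPrime q))
    (hrs : ∃ rs : List (Localization.AtPrime QF), IsRegular (Localization.AtPrime QF) rs ∧
      Ideal.ofList rs = I.map (toFib Q QF)) :
    ∃ g : B, g ∉ Q ∧ ∃ l : List (Localization.Away g), IsRegular (Localization.Away g) l ∧
      I.map (algebraMap B (Localization.Away g)) = Ideal.ofList l := by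
  have hIQ : I ≤ Q := fun x hx => by
    rw [← hq, Ideal.mem_comap, Ideal.Quotient.eq_zero_iff_mem.2 hx]
    exact zero_mem _
  obtain ⟨c, f, hfI, hfreg, hfgen⟩ := exists_lifts_fib Q QF hQF I hIQ hrs
  obtain ⟨s, hs, hsI⟩ := exists_mul_mem_span Q QF hQF I hI f hfI hfgen.le q hq hfl
  obtain ⟨n, π₀, hπ₀, hker⟩ :=
    (Algebra.FinitePresentation.out : ∃ (n : ℕ) (π₀ : MvPolynomial (Fin n) A →ₐ[A] B),
      Function.Surjective π₀ ∧ (RingHom.ker π₀.toRingHom).FG)
  let P := MvPolynomial (Fin n) A
  let J : Ideal P := RingHom.ker π₀.toRingHom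
  let Q' : Ideal P := Q.comap π₀.toRingHom
  let C' := P ⧸ J
  let σ₁ : C' ≃ₐ[A] B := Ideal.quotientKerAlgEquivOfSurjective hπ₀
  have hJQ : J ≤ Q' := fun x hx => by
    show π₀ x ∈ Q
    rw [show π₀ x = 0 from hx]
    exact zero_mem _
  have hp : Q'.comap (algebraMap A P) = Q.comap (algebraMap A B) :=
    Ideal.ext fun a => by
      show π₀ (algebraMap A P a) ∈ Q ↔ algebraMap A B a ∈ Q
      rw [AlgHom.commutes]
  let p := Q'.comap (algebraMap A P)
  let Q₀ := PrimeSpectrum.preimageHomeomorphFiber A P ⟨p, inferInstance⟩ ⟨⟨Q', inferInstance⟩, rfl⟩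
  let QF' : Ideal (p.Fiber P) := Q₀.asIdeal
  haveI : QF'.IsPrime := Q₀.isPrime
  have hQF' : QF'.comap (Algebra.TensorProduct.includeRight : P →ₐ[A] p.Fiber P).toRingHom = Q' := by
    have e := (PrimeSpectrum.preimageHomeomorphFiber A P ⟨p, inferInstance⟩).symm_apply_apply ⟨⟨Q', inferInstance⟩, rfl⟩
    exact congrArg (fun z => (Subtype.val z).asIdeal) e
  haveI : Algebra.Smooth A P := ⟨inferInstance, inferInstance⟩
  haveI := isRegularLocalRing_fib Q' QF'
  -- the map of fibres
  have key : ∀ (p' : Ideal A) [p'.IsPrime] (h : p' = Q.comap (algebraMap A B)) (G : Ideal (p'.Fiber P)) [G.IsPrime]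
      (_ : G.comap (Algebra.TensorProduct.includeRight : P →ₐ[A] p'.Fiber P).toRingHom = Q'),
      ∃ π : Localization.AtPrime G →+* Localization.AtPrime QF, Function.Surjective π ∧
        (∀ x : P, π (algebraMap _ (Localization.AtPrime G)
          ((Algebra.TensorProduct.includeRight : P →ₐ[A] p'.Fiber P) x)) = toFib Q QF (π₀ x)) ∧
        RingHom.ker π = J.map ((algebraMap _ (Localization.AtPrime G)).comp
          (Algebra.TensorProduct.includeRight : P →ₐ[A] p'.Fiber P).toRingHom) := by
    intro p' _ h G _ hG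
    subst h
    let φ : (Q.comap (algebraMap A B)).Fiber P →ₐ[(Q.comap (algebraMap A B)).ResidueField]
        (Q.comap (algebraMap A B)).Fiber B := Algebra.TensorProduct.map (AlgHom.id _ _) π₀
    have hφ : Function.Surjective φ :=
      LinearMap.lTensor_surjective (Q.comap (algebraMap A B)).ResidueField (g := π₀.toLinearMap) hπ₀
    have hkφ : RingHom.ker φ.toRingHom =
        J.map (Algebra.TensorProduct.includeRight : P →ₐ[A] (Q.comap (algebraMap A B)).Fiber P).toRingHom :=
      Algebra.TensorProduct.lTensor_ker (A := (Q.comap (algebraMap A B)).ResidueField) π₀ hπ₀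
    have hφi : ∀ x : P, φ ((Algebra.TensorProduct.includeRight : P →ₐ[A] (Q.comap (algebraMap A B)).Fiber P) x) =
        (Algebra.TensorProduct.includeRight : B →ₐ[A] (Q.comap (algebraMap A B)).Fiber B) (π₀ x) := fun x => rfl
    have hc : G = QF.comap φ.toRingHom := by
      refine congrArg PrimeSpectrum.asIdeal (show (⟨G, ‹_›⟩ : PrimeSpectrum _) = ⟨QF.comap φ.toRingHom, inferInstance⟩ from ?_)
      refine (PrimeSpectrum.preimageHomeomorphFiber A P ⟨Q.comap (algebraMap A B), inferInstance⟩).symm.injective ?_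
      refine Subtype.ext (PrimeSpectrum.ext ?_)
      show G.comap (Algebra.TensorProduct.includeRight : P →ₐ[A] _).toRingHom =
        (QF.comap φ.toRingHom).comap (Algebra.TensorProduct.includeRight : P →ₐ[A] _).toRingHom
      rw [hG]
      exact Ideal.ext fun x => (hQF.symm ▸ Iff.rfl :
        π₀ x ∈ Q ↔ π₀ x ∈ QF.comap (Algebra.TensorProduct.includeRight : B →ₐ[A] _).toRingHom)
    obtain ⟨π, hπ, hπk, hπc⟩ := TransLib.exists_localPresentation φ hφ QF G hc.symm
    refine ⟨π.toRingHom, hπ, fun x => ?_, ?_⟩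
    · exact (hπc _).trans (congrArg _ (hφi x))
    · rw [hπk, hkφ, Ideal.map_map]
  obtain ⟨π, hπ, hπx, hπk⟩ := key p hp QF' hQF'
  -- generators of the kernel
  haveI hJprime : (Q'.map (Ideal.Quotient.mk J)).IsPrime :=
    Ideal.map_isPrime_of_surjective Ideal.Quotient.mk_surjective (by rwa [Ideal.mk_ker])
  have hJq : (Q'.map (Ideal.Quotient.mk J)).comap (Ideal.Quotient.mk J) = Q' := by
    rw [Ideal.comap_map_of_surjective _ Ideal.Quotient.mk_surjective, ← RingHom.ker_eq_comap_bot, Ideal.mk_ker,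
      sup_eq_left.2 hJQ]
  haveI : Module.Flat A C' := Module.Flat.of_linearEquiv σ₁.toLinearEquiv
  have hflJ : Module.Flat A (Localization.AtPrime (Q'.map (Ideal.Quotient.mk J))) :=
    Module.Flat.trans A C' _
  haveI : IsNoetherianRing ((Q.comap (algebraMap A B)).Fiber B) :=
    Algebra.FiniteType.isNoetherianRing (Q.comap (algebraMap A B)).ResidueField _
  haveI : IsNoetherianRing (Localization.AtPrime QF) := IsLocalization.isNoetherianRing QF.primeCompl _ inferInstance
  obtain ⟨rsJ, hrsJ, hrsJk⟩ := (CIRingLib.isCompleteIntersection_iff (B := Localization.AtPrime QF') (A := Localization.AtPrime QF) π hπ).1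
    (CIRingLib.isCompleteIntersection_of_regular (Localization.AtPrime QF))
  obtain ⟨d, F, hFJ, hFreg, hFgen⟩ := exists_lifts_fib Q' QF' hQF' J hJQ ⟨rsJ, hrsJ, hrsJk.trans hπk⟩
  obtain ⟨t, ht, htJ⟩ := exists_mul_mem_span Q' QF' hQF' J hker F hFJ hFgen.le _ hJq hflJ
  choose f' hf' using fun i => hπ₀ (f i)
  have hmemQ : ∀ i, Fin.append F f' i ∈ Q' := fun i => by
    refine Fin.addCases (fun j => ?_) (fun j => ?_) i
    · rw [Fin.append_left]; exact hJQ (hFJ j)
    · rw [Fin.append_right]
      show π₀ (f' j) ∈ Q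
      rw [hf']; exact hIQ (hfI j)
  have hreg : IsRegular (Localization.AtPrime QF') ((List.ofFn (Fin.append F f')).map (toFib Q' QF')) := by
    refine ⟨?_, fun htop => ?_⟩
    · rw [List.ofFn_fin_append, List.map_append]
      refine isWeaklyRegular_append_lift (P := Localization.AtPrime QF') (R := Localization.AtPrime QF) π hπ hFreg.toIsWeaklyRegular ?_ ?_
      · rw [← Ideal.map_ofList, TransLib.ofList_ofFn, ← hFgen, hπk]
      · rw [List.map_map, List.map_ofFn]
        have e1 : ((⇑π ∘ ⇑(toFib Q' QF')) ∘ f') = ⇑(toFib Q QF) ∘ f :=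
          funext fun i => (hπx (f' i)).trans (congrArg _ (hf' i))
        rw [e1, ← List.map_ofFn]
        exact hfreg.toIsWeaklyRegular
    · rw [smul_eq_mul, Ideal.mul_top] at htop
      refine (IsLocalRing.maximalIdeal.isMaximal _).ne_top (top_le_iff.1 (htop.le.trans (CommAlgDim.ofList_le_iff.2 ?_)))
      intro x hx
      obtain ⟨b, hb, rfl⟩ := List.mem_map.1 hx
      obtain ⟨i, rfl⟩ := List.mem_ofFn.1 hb
      exact (toFib_mem Q' QF' hQF').2 (hmemQ i)
  obtain ⟨g₀, hg₀, hw⟩ := exists_isWeaklyRegular_away Q' QF' hQF' (Fin.append F f') hmemQ hreg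
  obtain ⟨s', rfl⟩ := hπ₀ s
  let G := g₀ * (t * s')
  have hG : G ∉ Q' := Q'.primeCompl.mul_mem hg₀ (Q'.primeCompl.mul_mem ht hs)
  let L := Localization.Away G
  let Lb := Localization.Away (π₀ G)
  have hu : IsUnit (algebraMap P L g₀) ∧ IsUnit (algebraMap P L (t * s')) :=
    IsUnit.mul_iff.1 (map_mul (algebraMap P L) g₀ (t * s') ▸ IsLocalization.Away.algebraMap_isUnit G)
  have hut : IsUnit (algebraMap P L t) ∧ IsUnit (algebraMap P L s') :=
    IsUnit.mul_iff.1 (map_mul (algebraMap P L) t s' ▸ hu.2)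
  have hw' : IsWeaklyRegular L ((List.ofFn F).map (algebraMap P L) ++ (List.ofFn f').map (algebraMap P L)) := by
    let U := Localization.Away g₀
    letI : Algebra U L := (IsLocalization.Away.lift g₀ hu.1).toAlgebra
    haveI : IsScalarTower P U L :=
      IsScalarTower.of_algebraMap_eq fun x => (IsLocalization.Away.lift_eq g₀ hu.1 x).symm
    haveI : Module.Flat U L :=
      (Module.flat_iff_of_isLocalization U (Submonoid.powers g₀) L).mpr inferInstance
    have h2 := IsWeaklyRegular.of_flat (S := L) hw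
    rw [List.map_map, ← RingHom.coe_comp, ← IsScalarTower.algebraMap_eq P U L, List.ofFn_fin_append, List.map_append] at h2
    exact h2
  let σ : L →+* Lb := IsLocalization.Away.map L Lb π₀.toRingHom G
  have hσ : Function.Surjective σ := KRLib.awayMap_surjective π₀.toRingHom G L Lb hπ₀
  have hσk : RingHom.ker σ = Ideal.ofList ((List.ofFn F).map (algebraMap P L)) := by
    rw [show RingHom.ker σ = J.map (algebraMap P L) from KRLib.ker_awayMap π₀.toRingHom G L Lb, ← Ideal.map_ofList,
      TransLib.ofList_ofFn]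
    refine le_antisymm (Ideal.map_le_iff_le_comap.2 fun x hx => ?_)
      (Ideal.map_mono (Ideal.span_le.2 (Set.range_subset_iff.2 hFJ)))
    rw [Ideal.mem_comap, ← Ideal.mul_unit_mem_iff_mem _ hut.1, ← map_mul, mul_comm x t]
    exact Ideal.mem_map_of_mem _ (htJ x hx)
  have hwb : IsWeaklyRegular Lb ((List.ofFn f).map (algebraMap B Lb)) := by
    have h := isWeaklyRegular_of_append_lift σ hσ hw' hσk
    rw [List.map_map, List.map_ofFn] at h
    rw [List.map_ofFn]
    have e : ((⇑σ ∘ ⇑(algebraMap P L)) ∘ f') = ⇑(algebraMap B Lb) ∘ f := funext fun i => by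
      show σ (algebraMap P L (f' i)) = algebraMap B Lb (f i)
      rw [← RingHom.comp_apply, KRLib.awayMap_comp]
      exact congrArg (algebraMap B Lb) (hf' i)
    rw [e] at h
    exact h
  refine ⟨π₀ G, hG, (List.ofFn f).map (algebraMap B Lb), ⟨hwb, fun htop => ?_⟩, ?_⟩
  · rw [smul_eq_mul, Ideal.mul_top, ← Ideal.map_ofList] at htop
    refine (IsLocalization.map_algebraMap_ne_top_iff_disjoint (Submonoid.powers (π₀ G)) Lb _).2 ?_ htop.symm
    rw [Set.disjoint_left]
    rintro x ⟨k, rfl⟩ hx
    exact hG ((inferInstance : Q.IsPrime).mem_of_pow_mem k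
      ((CommAlgDim.ofList_le_iff.2 (List.forall_mem_ofFn_iff.2 fun i => hIQ (hfI i))) hx))
  · rw [← Ideal.map_ofList, TransLib.ofList_ofFn]
    refine le_antisymm (Ideal.map_le_iff_le_comap.2 fun x hx => ?_)
      (Ideal.map_mono (Ideal.span_le.2 (Set.range_subset_iff.2 hfI)))
    have hus : IsUnit (algebraMap B Lb (π₀ s')) := by
      have h1 : σ (algebraMap P L s') = algebraMap B Lb (π₀ s') := by
        rw [← RingHom.comp_apply, KRLib.awayMap_comp]; rfl
      exact h1 ▸ hut.2.map σ
    rw [Ideal.mem_comap, ← Ideal.mul_unit_mem_iff_mem _ hus, ← map_mul, mul_comm x _]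
    exact Ideal.mem_map_of_mem _ (hsI x hx)

end RelRegLib
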