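import Groth.Agent.RelRegLib.Basic
import Mathlib

/-!
# Koszul exact and regular neighbourhoods
-/

set_option autoImplicit false
set_option linter.style.haveILetI false

universe u

open KoszDetLib KRLib RingTheory.Sequence IsLocalRing TensorProduct

namespace RelRegLib

variable {A B : Type u} [CommRing A] [CommRing B] [Algebra A B] [Algebra.Smooth A B] (Q : Ideal B) [Q.IsPrime]
  (QF : Ideal ((Q.comap (algebraMap A B)).Fiber B)) [QF.IsPrime]
  (hQF : QF.comap (Algebra.TensorProduct.includeRight : B →ₐ[A] (Q.comap (algebraMap A B)).Fiber B).toRingHom = Q)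

include hQF in
/-- The quotient by a sequence regular on the fibre is flat at the point. -/
theorem flat_atPrime_quotient (l : List B) (hl : ∀ b ∈ l, b ∈ Q)
    (h : IsRegular (Localization.AtPrime QF) (l.map (toFib Q QF)))
    (q : Ideal (B ⧸ Ideal.ofList l)) [q.IsPrime] (hq : q.comap (Ideal.Quotient.mk (Ideal.ofList l)) = Q) :
    Module.Flat A (Localization.AtPrime q) := by
  haveI : Module.Flat A B := Algebra.Smooth.flat A B
  haveI : Module.Flat A (LocalizedModule Q.primeCompl B) :=
    Module.Flat.trans A B (LocalizedModule Q.primeCompl B)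
  have hfl := (TransLib.regular_and_flat_point B Q l hl ‹_› (regular_fibre_module Q QF hQF l h)).2 l.length le_rfl
  rw [List.take_length] at hfl
  let C := B ⧸ Ideal.ofList l
  haveI : q.LiesOver Q := ⟨hq.symm⟩
  have hsub : Algebra.algebraMapSubmonoid C Q.primeCompl = q.primeCompl :=
    Ideal.algebraMapSubmonoid_primeCompl_of_liesOver_surjective q Q Ideal.Quotient.mk_surjective
  haveI : IsLocalization (Algebra.algebraMapSubmonoid C Q.primeCompl) (Localization.AtPrime q) := by
    rw [hsub]; infer_instance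
  haveI : IsLocalizedModule Q.primeCompl (IsScalarTower.toAlgHom B C (Localization.AtPrime q)).toLinearMap :=
    isLocalizedModule_iff_isLocalization.mpr ‹_›
  let e₀ : (B ⧸ (Ideal.ofList l • (⊤ : Submodule B B))) ≃ₗ[B] C :=
    Submodule.quotEquivOfEq _ _ (by rw [smul_eq_mul, Ideal.mul_top])
  haveI : IsLocalizedModule Q.primeCompl
      ((IsScalarTower.toAlgHom B C (Localization.AtPrime q)).toLinearMap ∘ₗ e₀.toLinearMap) :=
    IsLocalizedModule.of_linearEquiv_right _ _ e₀
  let e := IsLocalizedModule.iso Q.primeCompl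
    ((IsScalarTower.toAlgHom B C (Localization.AtPrime q)).toLinearMap ∘ₗ e₀.toLinearMap)
  exact Module.Flat.of_linearEquiv (e.restrictScalars A).symm

include hQF in
/-- The quotient by a sequence regular on the fibre is syntomic near the point. -/
theorem exists_syntomic_away (l : List B) (hl : ∀ b ∈ l, b ∈ Q)
    (h : IsRegular (Localization.AtPrime QF) (l.map (toFib Q QF))) :
    ∃ g : B, g ∉ Q ∧ Synt.IsSyntomic A (Localization.Away (Ideal.Quotient.mk (Ideal.ofList l) g)) := by
  classical
  let p := Q.comap (algebraMap A B)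
  let C := B ⧸ Ideal.ofList l
  let mkC : B →ₐ[A] C := Ideal.Quotient.mkₐ A (Ideal.ofList l)
  have hle : Ideal.ofList l ≤ Q := CommAlgDim.ofList_le_iff.2 hl
  haveI hqp : (Q.map (Ideal.Quotient.mk (Ideal.ofList l))).IsPrime :=
    Ideal.map_isPrime_of_surjective Ideal.Quotient.mk_surjective (by rwa [Ideal.mk_ker])
  let q : Ideal C := Q.map (Ideal.Quotient.mk (Ideal.ofList l))
  have hq : q.comap (Ideal.Quotient.mk (Ideal.ofList l)) = Q := by
    rw [Ideal.comap_map_of_surjective _ Ideal.Quotient.mk_surjective, ← RingHom.ker_eq_comap_bot, Ideal.mk_ker,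
      sup_eq_left.2 hle]
  let φ : p.Fiber B →ₐ[p.ResidueField] p.Fiber C := Algebra.TensorProduct.map (AlgHom.id _ _) mkC
  have hφ : Function.Surjective φ := by
    exact LinearMap.lTensor_surjective p.ResidueField (g := mkC.toLinearMap) Ideal.Quotient.mk_surjective
  have hkφ : RingHom.ker φ.toRingHom = (Ideal.ofList l).map
      (Algebra.TensorProduct.includeRight : B →ₐ[A] p.Fiber B).toRingHom := by
    have h1 := Algebra.TensorProduct.lTensor_ker (A := p.ResidueField) mkC Ideal.Quotient.mk_surjective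
    rw [show RingHom.ker mkC = Ideal.ofList l from Ideal.mk_ker] at h1
    exact h1
  have hkle : RingHom.ker φ.toRingHom ≤ QF :=
    hkφ ▸ Ideal.map_le_iff_le_comap.2 (hle.trans hQF.ge)
  haveI : (QF.map φ.toRingHom).IsPrime := Ideal.map_isPrime_of_surjective hφ hkle
  let Q' : Ideal (p.Fiber C) := QF.map φ.toRingHom
  have hQ' : Q'.comap φ.toRingHom = QF := by
    rw [Ideal.comap_map_of_surjective φ.toRingHom hφ, ← RingHom.ker_eq_comap_bot, sup_eq_left.2 hkle]
  have hQ'q : Q'.comap (Algebra.TensorProduct.includeRight : C →ₐ[A] p.Fiber C).toRingHom = q := by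
    refine Ideal.comap_injective_of_surjective _ Ideal.Quotient.mk_surjective (Eq.trans ?_ hq.symm)
    calc _ = (Q'.comap φ.toRingHom).comap (Algebra.TensorProduct.includeRight : B →ₐ[A] p.Fiber B).toRingHom := rfl
      _ = Q := by rw [hQ', hQF]
  obtain ⟨π, hπ, hπker, -⟩ := TransLib.exists_localPresentation φ hφ Q' QF hQ'
  haveI := isRegularLocalRing_fib Q QF
  haveI : Algebra.EssFiniteType p.ResidueField (Localization.AtPrime QF) :=
    Algebra.EssFiniteType.comp p.ResidueField (p.Fiber B) _
  have hCI : Synt.IsCIOver p.ResidueField (Localization.AtPrime Q') := by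
    refine (TransLib.isCIOver_iff π hπ).2 ⟨l.map (toFib Q QF), h, ?_⟩
    rw [hπker, hkφ, Ideal.map_map, Ideal.map_ofList]
  haveI : Algebra.FinitePresentation A C := Algebra.FinitePresentation.quotient ⟨l.toFinset, by
    rw [List.coe_toFinset]⟩
  haveI : Algebra.FinitePresentation A (Localization.Away (1 : C)) :=
    Algebra.FinitePresentation.trans A C _
  obtain ⟨g, hg, n, c, F, hF, ⟨e⟩⟩ := TransLib.relGCI_nhd_of_local p q Q' hQ'q 1
    (fun h1 => hqp.ne_top ((Ideal.eq_top_iff_one _).2 h1)) inferInstance (flat_atPrime_quotient Q QF hQF l hl h q hq) hCI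
  obtain ⟨g, rfl⟩ := Ideal.Quotient.mk_surjective g
  exact ⟨g, fun h1 => hg (Ideal.mem_map_of_mem _ h1), TransLib.isSyntomic_congr e.symm (TransLib.isSyntomic_relGCIRing hF)⟩

include hQF in
/-- A sequence regular on the fibre is Koszul exact near the point. -/
theorem exists_isExactK_away {c : ℕ} (F : Fin c → B) (hFQ : ∀ i, F i ∈ Q)
    (hF : IsRegular (Localization.AtPrime QF) ((List.ofFn F).map (toFib Q QF))) :
    ∃ g : B, g ∉ Q ∧ IsExactK (fun i => algebraMap B (Localization.Away g) (F i)) := by
  obtain ⟨g₁, hg₁, hsyn⟩ := exists_syntomic_away Q QF hQF (List.ofFn F) (List.forall_mem_ofFn_iff.2 hFQ) hF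
  let J := Ideal.ofList (List.ofFn F)
  have hJ : J = Ideal.span (Set.range F) := TransLib.ofList_ofFn F
  let L := Localization.Away g₁
  let C := B ⧸ J
  let σ₀ := IsLocalization.Away.map L (Localization.Away (Ideal.Quotient.mk J g₁)) (Ideal.Quotient.mk J) g₁
  let σ : L →ₐ[A] Localization.Away (Ideal.Quotient.mk J g₁) :=
    { σ₀ with
      commutes' := fun a => by
        show σ₀ (algebraMap A L a) = _
        rw [IsScalarTower.algebraMap_apply A B L, ← RingHom.comp_apply, KRLib.awayMap_comp,
          IsScalarTower.algebraMap_apply A C (Localization.Away (Ideal.Quotient.mk J g₁))]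
        rfl }
  have hσ : Function.Surjective σ :=
    KRLib.awayMap_surjective (Ideal.Quotient.mk J) g₁ L _ Ideal.Quotient.mk_surjective
  haveI : Algebra.Smooth B L := Algebra.Smooth.of_isLocalization_Away g₁
  haveI : Algebra.Smooth A L := Algebra.Smooth.comp A B L
  have hK := KoszAtLib.locKR_ker_of_smooth σ hσ (TransLib.isLCI_of_isSyntomic hsyn)
  rw [show RingHom.ker σ.toRingHom = J.map (algebraMap B L) from
    (KRLib.ker_awayMap (Ideal.Quotient.mk J) g₁ L (Localization.Away (Ideal.Quotient.mk J g₁))).trans (by rw [Ideal.mk_ker])] at hK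
  have hd : Disjoint (Submonoid.powers g₁ : Set B) (Q : Set B) := by
    rw [Set.disjoint_left]
    rintro x ⟨k, rfl⟩ hx
    exact hg₁ ((inferInstance : Q.IsPrime).mem_of_pow_mem k hx)
  haveI hP₁ : (Q.map (algebraMap B L)).IsPrime :=
    IsLocalization.isPrime_of_isPrime_disjoint (Submonoid.powers g₁) L Q inferInstance hd
  obtain ⟨g', hg', hK'⟩ := hK (Q.map (algebraMap B L)) hP₁
    (Ideal.map_mono (hJ ▸ Ideal.span_le.2 (Set.range_subset_iff.2 hFQ)))
  obtain ⟨u, hu, hKu⟩ := KRLib.exists_of_away Q g₁ hg₁ g' hg' hK'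
  refine ⟨u, hu, ?_⟩
  let U := Localization.Away u
  obtain ⟨d, h', hh', hspan⟩ := hKu
  rw [hJ, Ideal.map_span, ← Set.range_comp] at hspan
  have hd' : Disjoint (Submonoid.powers u : Set B) (Q : Set B) := by
    rw [Set.disjoint_left]
    rintro x ⟨k, rfl⟩ hx
    exact hu ((inferInstance : Q.IsPrime).mem_of_pow_mem k hx)
  haveI hPu : (Q.map (algebraMap B U)).IsPrime :=
    IsLocalization.isPrime_of_isPrime_disjoint (Submonoid.powers u) U Q inferInstance hd'
  have hmin0 := minimalAt_of_fib Q QF hQF F hF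
  have hmin : MinimalAt (fun i => algebraMap B U (F i)) (Q.map (algebraMap B U)) := by
    intro a ha i
    classical
    obtain ⟨⟨s, hs⟩, hsa⟩ := IsLocalization.exist_integer_multiples_of_finite (Submonoid.powers u) a
    choose b hb using hsa
    have h0 : algebraMap B U (∑ j, b j * F j) = 0 := by
      rw [map_sum]
      simp only [map_mul, hb, Algebra.smul_def, mul_assoc, ← Finset.mul_sum, ha, mul_zero]
    obtain ⟨⟨t, ht⟩, htz⟩ := (IsLocalization.map_eq_zero_iff (Submonoid.powers u) U _).1 h0
    have h1 := hmin0 (fun j => t * b j) (by simpa only [mul_assoc, ← Finset.mul_sum] using htz) i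
    have h2 : b i ∈ Q := ((inferInstance : Q.IsPrime).mem_or_mem h1).resolve_left
      (fun h3 => Set.disjoint_left.1 hd' ht h3)
    have h3 := Ideal.mem_map_of_mem (algebraMap B U) h2
    rw [hb, Algebra.smul_def] at h3
    exact (Ideal.unit_mul_mem_iff_mem _ (IsLocalization.map_units U (⟨s, hs⟩ : Submonoid.powers u))).1 h3
  have hne : Ideal.span (Set.range h') ≠ ⊤ := by
    rw [hspan]
    refine ne_top_of_le_ne_top hPu.ne_top (Ideal.span_le.2 ?_)
    rintro _ ⟨i, rfl⟩
    exact Ideal.mem_map_of_mem _ (hFQ i)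
  have hcd : c ≤ d := le_of_minimalAt hmin hspan.symm
  have hdc : d ≤ c := KRLib.length_le_of_isExactK hh' hspan hne
  obtain rfl : c = d := le_antisymm hcd hdc
  exact isExactK_of_length_eq hh' hspan

include hQF in
/-- A sequence regular on the fibre is regular near the point. -/
theorem exists_isWeaklyRegular_away {c : ℕ} (F : Fin c → B) (hFQ : ∀ i, F i ∈ Q)
    (hF : IsRegular (Localization.AtPrime QF) ((List.ofFn F).map (toFib Q QF))) :
    ∃ g : B, g ∉ Q ∧ IsWeaklyRegular (Localization.Away g) ((List.ofFn F).map (algebraMap B (Localization.Away g))) := by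
  classical
  have hpre : ∀ i : Fin (c + 1), IsRegular (Localization.AtPrime QF)
      ((List.ofFn fun j : Fin i => F (Fin.castLE (Nat.lt_succ_iff.1 i.2) j)).map (toFib Q QF)) := by
    intro i
    rw [← take_ofFn_eq (Nat.lt_succ_iff.1 i.2) F, List.map_take]
    have hw : IsWeaklyRegular (Localization.AtPrime QF) (((List.ofFn F).map (toFib Q QF)).take i) := by
      have := hF.toIsWeaklyRegular
      rw [← List.take_append_drop i ((List.ofFn F).map (toFib Q QF)), isWeaklyRegular_append_iff] at this
      exact this.1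
    refine ⟨hw, fun htop => hF.top_ne_smul ?_⟩
    refine le_antisymm ?_ le_top
    exact htop.le.trans (Submodule.smul_mono_left (Ideal.span_mono fun x hx => List.mem_of_mem_take hx))
  choose g hg hK using fun i : Fin (c + 1) =>
    exists_isExactK_away Q QF hQF (fun j : Fin i => F (Fin.castLE (Nat.lt_succ_iff.1 i.2) j)) (fun j => hFQ _) (hpre i)
  let G := ∏ i, g i
  refine ⟨G, prod_mem (S := Q.primeCompl) fun i _ => hg i, ?_⟩
  rw [List.map_ofFn]
  refine isWeaklyRegular_of_isExactK _ fun i hi => ?_
  let U := Localization.Away (g ⟨i, Nat.lt_succ_iff.2 hi⟩)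
  let L := Localization.Away G
  have hu : IsUnit (algebraMap B L (g ⟨i, Nat.lt_succ_iff.2 hi⟩)) := by
    refine isUnit_of_dvd_unit (map_dvd (algebraMap B L) ?_) (IsLocalization.Away.algebraMap_isUnit G)
    exact Finset.dvd_prod_of_mem g (Finset.mem_univ _)
  letI : Algebra U L := (IsLocalization.Away.lift (g ⟨i, Nat.lt_succ_iff.2 hi⟩) hu).toAlgebra
  haveI : IsScalarTower B U L :=
    IsScalarTower.of_algebraMap_eq fun x => (IsLocalization.Away.lift_eq _ hu x).symm
  haveI : Module.Flat U L :=
    (Module.flat_iff_of_isLocalization U (Submonoid.powers (g ⟨i, Nat.lt_succ_iff.2 hi⟩)) L).mpr inferInstance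
  have hE := isExactK_of_flat (R := L) (hK ⟨i, Nat.lt_succ_iff.2 hi⟩)
  convert hE using 1
  funext j
  exact IsScalarTower.algebraMap_apply B U L _

end RelRegLib
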