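import Groth.Prelude.Def_Frob
import Groth.Prelude.Def_FrobAlg
import Groth.Agent.FrobEtaleLib.Smooth
import Groth.Agent.S14036
import Mathlib

/-!
# The relative Frobenius of a smooth morphism is flat
-/

set_option autoImplicit false
set_option linter.style.haveILetI false

universe u

open CategoryTheory CategoryTheory.Limits AlgebraicGeometry TensorProduct

namespace RelRegLib

theorem flat_relFrob (p : ℕ) [Fact p.Prime] {X S : Scheme.{u}} [FrobSch.IsCharP S p] (f : X ⟶ S) [Smooth f] :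
    Flat (FrobSch.relFrob f p) := by
  haveI : FrobSch.IsCharP X p := FrobSch.IsCharP.of_hom f p
  rw [HasRingHomProperty.iff_exists_appLE (P := @Flat)
    (RingHom.Flat.stableUnderComposition.stableUnderCompositionWithLocalizationAway RingHom.Flat.holdsForLocalizationAway).1]
  intro x
  obtain ⟨V, hV, hxV, -⟩ := exists_isAffineOpen_mem_and_subset (x := f x) (U := ⊤) trivial
  obtain ⟨U, hU, hxU, hUV⟩ := exists_isAffineOpen_mem_and_subset (x := x) (U := f ⁻¹ᵁ V) hxV
  have hUV' : U ≤ f ⁻¹ᵁ V := hUV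
  let σ := pullback.fst f (FrobSch.frob S p)
  let π := pullback.snd f (FrobSch.frob S p)
  let F := FrobSch.relFrob f p
  have hsq : IsPullback σ π f (FrobSch.frob S p) := IsPullback.of_hasPullback f (FrobSch.frob S p)
  have hVV : V ≤ FrobSch.frob S p ⁻¹ᵁ V := le_rfl
  let W := σ ⁻¹ᵁ U ⊓ π ⁻¹ᵁ V
  have hW : IsAffineOpen W := by
    have : IsAffine _ := hU
    have : IsAffine _ := hV
    exact .of_isIso (Scheme.Hom.isPullback_resLE hsq hVV hUV' (rfl : W = _)).isoPullback.hom
  have hFσ : F ≫ σ = FrobSch.frob X p := FrobSch.relFrob_fst f p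
  have hFπ : F ≫ π = f := FrobSch.relFrob_snd f p
  have eU : U ≤ F ⁻¹ᵁ W := fun y hy => by
    refine ⟨?_, ?_⟩
    · show σ (F y) ∈ U
      rw [← Scheme.Hom.comp_apply, hFσ]
      exact hy
    · show π (F y) ∈ V
      rw [← Scheme.Hom.comp_apply, hFπ]
      exact hUV' hy
  refine ⟨⟨W, hW⟩, ⟨U, hU⟩, hxU, eU, ?_⟩
  have hpo := (isIso_pushoutSection_iff hsq hVV hUV' (rfl : W = _)).mp
    (isIso_pushoutSection_of_isAffineOpen hsq hVV hUV' (rfl : W = _) hV hV hU)
  haveI : Nonempty U := ⟨⟨x, hxU⟩⟩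
  haveI : Nonempty V := ⟨⟨f x, hxV⟩⟩
  haveI : CharP Γ(S, V) p := (CharP.charP_iff_prime_eq_zero Fact.out).2 (FrobSch.natCast_eq_zero_app S p V)
  haveI : CharP Γ(X, U) p := (CharP.charP_iff_prime_eq_zero Fact.out).2 (FrobSch.natCast_eq_zero_app X p U)
  letI := (f.appLE V U hUV').hom.toAlgebra
  haveI : Algebra.Smooth Γ(S, V) Γ(X, U) := HasRingHomProperty.appLE (P := @Smooth) f inferInstance ⟨V, hV⟩ ⟨U, hU⟩ hUV'
  let T := FrobAlg.Twist p Γ(S, V)
  have h1 := CommRingCat.isPushout_tensorProduct Γ(S, V) Γ(X, U) T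
  have hα : (FrobSch.frob S p).appLE V V hVV = CommRingCat.ofHom (S := T) (algebraMap Γ(S, V) T) := by
    ext a
    show (S.presheaf.map (𝟙 (Opposite.op V))).hom (((FrobSch.frob S p).app V).hom a) = a ^ p
    rw [S.presheaf.map_id]
    exact FrobSch.frob_app S p V a
  have h2 : IsPushout (f.appLE V U hUV') (CommRingCat.ofHom (S := T) (algebraMap Γ(S, V) T))
      (σ.appLE U W inf_le_left) (π.appLE V W inf_le_right) := hα ▸ hpo
  let e := h1.isoIsPushout _ _ h2
  have hF : Function.Bijective e.hom.hom := ConcreteCategory.bijective_of_isIso e.hom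
  have key : (F.appLE W U eU).hom.comp e.hom.hom = FrobAlg.relFrob p Γ(S, V) Γ(X, U) := by
    have : e.hom ≫ F.appLE W U eU = CommRingCat.ofHom (FrobAlg.relFrob p Γ(S, V) Γ(X, U)) := by
      refine h1.hom_ext ?_ ?_
      · rw [IsPushout.inl_isoIsPushout_hom_assoc, Scheme.Hom.appLE_comp_appLE]
        simp only [hFσ]
        ext b
        show (X.presheaf.map (𝟙 (Opposite.op U))).hom (((FrobSch.frob X p).app U).hom b) =
          FrobAlg.relFrob p Γ(S, V) Γ(X, U) (b ⊗ₜ 1)
        rw [X.presheaf.map_id]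
        refine (FrobSch.frob_app X p U b).trans ?_
        show b ^ p = b ^ p * (algebraMap Γ(S, V) Γ(X, U)) (1 : Γ(S, V))
        rw [map_one, mul_one]
      · rw [IsPushout.inr_isoIsPushout_hom_assoc]
        refine (Scheme.Hom.appLE_comp_appLE F π V W U inf_le_right eU).trans ?_
        simp only [hFπ]
        ext a
        show (f.appLE V U hUV').hom a = (1 : Γ(X, U)) ^ p * (f.appLE V U hUV').hom a
        rw [one_pow, one_mul]
    exact congrArg CommRingCat.Hom.hom this
  have hflat := Groth.Agent.S14036.result p Γ(S, V) Γ(X, U)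
  rw [← key] at hflat
  exact RingHom.Flat.respectsIso.cancel_left_isIso (f := e.hom) (g := F.appLE W U eU) |>.1 hflat

end RelRegLib
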